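import Cfsg.Agent.OddHalf.D4.Spor.Sheet
import Cfsg.Agent.KFacts.Co1D4.GTwo
import Cfsg.Agent.KFacts.Co1D4.Base
import Mathlib
import Cfsg.Agent.S0215
import Cfsg.Agent.OddHalf.D4.Facts
import Cfsg.Agent.OddHalf.Iface
import Cfsg.Agent.OddHalf.D9.Co1.Facts
import Cfsg.Agent.KFacts.MulCo.CoZero
import Cfsg.Agent.KFacts.MulM24
import Cfsg.Agent.ConwayFacts.AutCo1
import Cfsg.Agent.CoOneType.CoOneE
import Cfsg.Agent.CoOneType.ClosingFacts
import Cfsg.Agent.KFacts.Co1.OctGen
import Cfsg.Agent.Co2Type.Mono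
import Cfsg.Agent.KFacts.M24Two.Orders
import Cfsg.Agent.MonsterU.Lam2
import Cfsg.Agent.OddHalf.D4.Spor.LargeBase
import Cfsg.Agent.SporadicA.GolayFast
import Cfsg.Agent.FastGrp
import Cfsg.Agent.Prune
set_option linter.all false

section
prune_inst 0x7ffcfefbeff8bfffffff7e7fffffdffdf9fcffffefdff9cbffe9ffff3fff6b6fafe5fbaf8fe4d2fe9ef6e2bc10f87b53fffffeffeb6fdc7ffffd5ff45ffbff9fffffbd2971ff9cbe1ffc6ffffbf37fee7f3fffffffffffffffffffffffffffffffffffffffff

-- part: KFacts/Co1D4/TwoB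
section
prune_inst 0x20004000000000000018000000002060000001020063000160000800000005002000070180c0121010102e402000000000000040021000000a000000400000000028400002000000200000008001100000000000000000000000000000000000000000000
set_option linter.all false
open scoped Cfsg.Agent.FastGrp

-- part: KFacts/Co1D4/Abs
section
/-!
# `C(w) = (2² × L).2`: the facts for the sheet D4

`Setup w v r z L`: `Z = {1, w, v, wv}` commutes with the simple group `L`, `r` permutes the involutions of `Z` and commutes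
with `L`, `|C(w)| ≤ 8 |L|`, the only elements of `C(w)` commuting with `L` are those of `Z`; the 2-central involutions
of `L` are the conjugates of `z`, `z` is 2-central in `X` and `w z` is conjugate to `w`.
-/

set_option autoImplicit false

namespace Cfsg.Agent.KFacts.Co1D4.Abs

open Subgroup Cfsg.Agent.OddHalf.D4.Spor
open scoped commutatorElement

variable {X : Type*} [Group X]

structure Setup (w v r z : X) (L : Subgroup X) : Prop where
  ww : w * w = 1
  vv : v * v = 1
  w1 : w ≠ 1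
  v1 : v ≠ 1
  vw : v ≠ w
  comm : w * v = v * w
  rw : r * w * r⁻¹ = v
  rv : r * v * r⁻¹ = w * v
  Lw : ∀ l ∈ L, l * w = w * l
  Lv : ∀ l ∈ L, l * v = v * l
  Lr : ∀ l ∈ L, l * r = r * l
  simple : IsSimpleGroup L
  perf : ⁅L, L⁆ = L
  card : Nat.card (centralizer ({w} : Set X)) ≤ 8 * Nat.card L
  zL : z ∈ L
  zz : z * z = 1
  z1 : z ≠ 1
  zc : Cen z
  zcL : Cen (⟨z, zL⟩ : L)
  zconj : ∀ t : L, t * t = 1 → t ≠ 1 → Cen t → ∃ g : L, g * t * g⁻¹ = ⟨z, zL⟩
  wz : ∃ k, k * w * k⁻¹ = w * z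
  cent : ∀ g, g * w = w * g → (∀ l ∈ L, g * l = l * g) → g = 1 ∨ g = w ∨ g = v ∨ g = w * v

variable {w v r z : X} {L : Subgroup X}

/-- The four-group. -/
def four (ww : w * w = 1) (vv : v * v = 1) (comm : w * v = v * w) : Subgroup X where
  carrier := {g | g = 1 ∨ g = w ∨ g = v ∨ g = w * v}
  one_mem' := Or.inl rfl
  mul_mem' := by
    have e1 : w * (w * v) = v := by rw [← mul_assoc, ww, one_mul]
    have e2 : v * w = w * v := comm.symm
    have e3 : v * (w * v) = w := by rw [← mul_assoc, ← comm, mul_assoc, vv, mul_one]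
    have e4 : w * v * w = v := by rw [mul_assoc, ← comm, e1]
    have e5 : w * v * v = w := by rw [mul_assoc, vv, mul_one]
    have e6 : w * v * (w * v) = 1 := by rw [← mul_assoc, e4, vv]
    rintro a b (rfl | rfl | rfl | rfl) (rfl | rfl | rfl | rfl) <;>
      simp only [Set.mem_ofPred_eq, one_mul, mul_one, e1, e2, e3, e4, e5, e6, ww, vv, true_or, or_true]
  inv_mem' := by
    have e1 : w⁻¹ = w := inv_eq_of_mul_eq_one_right ww
    have e2 : v⁻¹ = v := inv_eq_of_mul_eq_one_right vv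
    rintro a (rfl | rfl | rfl | rfl)
    · exact Or.inl inv_one
    · exact Or.inr (Or.inl e1)
    · exact Or.inr (Or.inr (Or.inl e2))
    · refine Or.inr (Or.inr (Or.inr ?_))
      rw [mul_inv_rev, e1, e2, comm]

namespace Setup

variable (S : Setup w v r z L)
include S

/-- The four-group. -/
def Z : Subgroup X := four S.ww S.vv S.comm

theorem mem_Z {g : X} : g ∈ S.Z ↔ g = 1 ∨ g = w ∨ g = v ∨ g = w * v := Iff.rfl

theorem w_mem : w ∈ S.Z := Or.inr (Or.inl rfl)
theorem v_mem : v ∈ S.Z := Or.inr (Or.inr (Or.inl rfl))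
theorem wv_mem : w * v ∈ S.Z := Or.inr (Or.inr (Or.inr rfl))

theorem Z_comm : ∀ a ∈ S.Z, ∀ b ∈ S.Z, a * b = b * a := by
  have h := S.comm
  rintro a (rfl | rfl | rfl | rfl) b (rfl | rfl | rfl | rfl) <;>
    first
      | rfl
      | simp only [one_mul, mul_one]
      | exact h
      | exact h.symm
      | (simp only [← mul_assoc, h]; try simp only [mul_assoc, h])

theorem cent_LZ : ∀ l ∈ L, ∀ a ∈ S.Z, l * a = a * l := by
  rintro l hl a (rfl | rfl | rfl | rfl)
  · rw [one_mul, mul_one]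
  · exact S.Lw l hl
  · exact S.Lv l hl
  · rw [← mul_assoc, S.Lw l hl, mul_assoc, S.Lv l hl, mul_assoc]

theorem card_Z : Nat.card S.Z = 4 := by
  have hv : w * v ≠ v := fun h => S.w1 (mul_eq_right.mp h)
  have hw : w * v ≠ w := fun h => S.v1 (mul_eq_left.mp h)
  have h1 : w * v ≠ 1 := fun h => S.vw (by
    have : v = w⁻¹ := (eq_inv_of_mul_eq_one_right h)
    rw [this]
    exact inv_eq_of_mul_eq_one_right S.ww)
  classical
  have h2 : (S.Z : Set X) = (({1, w, v, w * v} : Finset X) : Set X) := by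
    ext g
    simp only [Finset.coe_insert, Finset.coe_singleton, Set.mem_insert_iff, Set.mem_singleton_iff]
    exact Iff.rfl
  have h3 : Nat.card S.Z = Set.ncard (S.Z : Set X) := rfl
  rw [h3, h2, Set.ncard_coe_finset, Finset.card_insert_of_notMem, Finset.card_insert_of_notMem,
    Finset.card_insert_of_notMem, Finset.card_singleton]
  · simpa using hv.symm
  · simp only [Finset.mem_insert, Finset.mem_singleton, not_or]
    exact ⟨S.vw.symm, hw.symm⟩
  · simp only [Finset.mem_insert, Finset.mem_singleton, not_or]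
    exact ⟨S.w1.symm, S.v1.symm, h1.symm⟩

/-- the centre of `L` is trivial -/
theorem eq_one_of_center {g : X} (hg : g ∈ L) (h : ∀ l ∈ L, g * l = l * g) : g = 1 := by
  have := S.simple
  have hn : (center L).Normal := inferInstance
  rcases hn.eq_bot_or_eq_top with h1 | h1
  · have : (⟨g, hg⟩ : L) ∈ center L := mem_center_iff.mpr fun l => Subtype.ext (h l l.2).symm
    rw [h1, mem_bot] at this
    exact congrArg Subtype.val this
  · exfalso
    have h2 : ∀ a b : L, a * b = b * a := fun a b => by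
      have : b ∈ center L := by rw [h1]; exact mem_top b
      exact mem_center_iff.mp this a
    have h3 : ⁅L, L⁆ = ⊥ := by
      rw [commutator_eq_bot_iff_le_centralizer]
      intro a ha
      rw [mem_centralizer_iff]
      intro b hb
      exact congrArg Subtype.val (h2 ⟨b, hb⟩ ⟨a, ha⟩)
    rw [S.perf] at h3
    apply S.z1
    have := S.zL
    rw [h3, mem_bot] at this
    exact this

theorem inf_eq : ∀ g ∈ S.Z, g ∈ L → g = 1 := fun g h1 h2 =>
  S.eq_one_of_center h2 fun l hl => (S.cent_LZ l hl g h1).symm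

/-- The product `Z L`. -/
def ZL : Subgroup X where
  carrier := {g | ∃ a ∈ S.Z, ∃ l ∈ L, g = a * l}
  one_mem' := ⟨1, S.Z.one_mem, 1, L.one_mem, (mul_one 1).symm⟩
  mul_mem' := by
    rintro _ _ ⟨a, ha, l, hl, rfl⟩ ⟨b, hb, m, hm, rfl⟩
    refine ⟨a * b, S.Z.mul_mem ha hb, l * m, L.mul_mem hl hm, ?_⟩
    calc a * l * (b * m) = a * (l * b) * m := by group
      _ = a * (b * l) * m := by rw [S.cent_LZ l hl b hb]
      _ = a * b * (l * m) := by group
  inv_mem' := by
    rintro _ ⟨a, ha, l, hl, rfl⟩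
    refine ⟨a⁻¹, S.Z.inv_mem ha, l⁻¹, L.inv_mem hl, ?_⟩
    rw [mul_inv_rev]
    exact S.cent_LZ _ (L.inv_mem hl) _ (S.Z.inv_mem ha)

theorem mem_ZL {g : X} : g ∈ S.ZL ↔ ∃ a ∈ S.Z, ∃ l ∈ L, g = a * l := Iff.rfl

theorem L_le : L ≤ S.ZL := fun l hl => ⟨1, S.Z.one_mem, l, hl, (one_mul l).symm⟩

theorem Z_le : S.Z ≤ S.ZL := fun a ha => ⟨a, ha, 1, L.one_mem, (mul_one a).symm⟩

theorem ZL_le : S.ZL ≤ centralizer ({w} : Set X) := by
  rintro _ ⟨a, ha, l, hl, rfl⟩
  rw [mem_centralizer_singleton_iff]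
  calc a * l * w = a * (l * w) := by group
    _ = a * w * l := by rw [S.Lw l hl]; group
    _ = w * a * l := by rw [S.Z_comm a ha w S.w_mem]
    _ = w * (a * l) := by group

theorem card_ZL [Finite X] : Nat.card S.ZL = 4 * Nat.card L := by
  rw [← S.card_Z, ← Nat.card_prod]
  symm
  refine Nat.card_eq_of_bijective (fun p : S.Z × L => (⟨p.1 * p.2, p.1, p.1.2, p.2, p.2.2, rfl⟩ : S.ZL)) ⟨?_, ?_⟩
  · rintro ⟨a, l⟩ ⟨b, m⟩ h
    have h1 : (a : X) * l = b * m := congrArg Subtype.val h
    have h2 : (b : X)⁻¹ * a = m * (l : X)⁻¹ := by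
      calc (b : X)⁻¹ * a = (b : X)⁻¹ * (a * l) * (l : X)⁻¹ := by group
        _ = m * (l : X)⁻¹ := by rw [h1]; group
    have h3 : (b : X)⁻¹ * a = 1 := S.inf_eq _ (S.Z.mul_mem (S.Z.inv_mem b.2) a.2) (by
      rw [h2]; exact L.mul_mem m.2 (L.inv_mem l.2))
    have h4 : (b : X) = a := inv_mul_eq_one.mp h3
    have h5 : (l : X) = m := by
      rw [h4] at h1
      exact mul_left_cancel h1
    exact Prod.ext (Subtype.ext h4.symm) (Subtype.ext h5)
  · rintro ⟨g, a, ha, l, hl, rfl⟩
    exact ⟨(⟨a, ha⟩, ⟨l, hl⟩), rfl⟩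

/-- `|C(w) : Z L| ≤ 2` -/
theorem index_cases [Finite X] : (S.ZL.subgroupOf (centralizer ({w} : Set X))).index = 1 ∨
    (S.ZL.subgroupOf (centralizer ({w} : Set X))).index = 2 := by
  have h1 := (S.ZL.subgroupOf (centralizer ({w} : Set X))).index_mul_card
  have h2 : Nat.card (S.ZL.subgroupOf (centralizer ({w} : Set X))) = Nat.card S.ZL :=
    Nat.card_congr (subgroupOfEquivOfLe S.ZL_le).toEquiv
  rw [h2, S.card_ZL] at h1
  have h3 := S.card
  have h4 : 0 < Nat.card L := Nat.card_pos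
  have h5 : 0 < Nat.card (centralizer ({w} : Set X)) := Nat.card_pos
  rw [← h1] at h3 h5
  generalize (S.ZL.subgroupOf (centralizer ({w} : Set X))).index = n at h3 h5
  have h6 : n ≤ 2 := by
    by_contra h
    have : 3 * (4 * Nat.card L) ≤ n * (4 * Nat.card L) := Nat.mul_le_mul_right _ (by omega)
    omega
  have h7 : n ≠ 0 := by rintro rfl; omega
  omega

/-- membership in `Z L` of a product of elements of `C(w)` -/
theorem mul_mem_iff [Finite X] {a b : X} (ha : a * w = w * a) (hb : b * w = w * b) :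
    a * b ∈ S.ZL ↔ (a ∈ S.ZL ↔ b ∈ S.ZL) := by
  have hC : ∀ c : X, c * w = w * c → c ∈ centralizer ({w} : Set X) := fun c h =>
    mem_centralizer_singleton_iff.mpr h
  rcases S.index_cases with h | h
  · rw [index_eq_one] at h
    have h1 : ∀ c, c * w = w * c → c ∈ S.ZL := by
      intro c hc
      have : (⟨c, hC c hc⟩ : centralizer ({w} : Set X)) ∈ S.ZL.subgroupOf (centralizer ({w} : Set X)) := by
        rw [h]; exact mem_top _
      exact this
    have h2 := h1 a ha
    have h3 := h1 b hb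
    exact ⟨fun _ => ⟨fun _ => h3, fun _ => h2⟩, fun _ => S.ZL.mul_mem h2 h3⟩
  · have h2 := mul_mem_iff_of_index_two h (a := ⟨a, hC a ha⟩) (b := ⟨b, hC b hb⟩)
    exact h2

omit S in
theorem inv_w {a : X} (ha : a * w = w * a) : a⁻¹ * w = w * a⁻¹ := by
  calc a⁻¹ * w = a⁻¹ * (w * a) * a⁻¹ := by group
    _ = w * a⁻¹ := by rw [← ha]; group

omit S in
theorem mul_w {a b : X} (ha : a * w = w * a) (hb : b * w = w * b) : a * b * w = w * (a * b) := by
  rw [mul_assoc, hb, ← mul_assoc, ha, mul_assoc]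

theorem inv_mem_iff {a : X} : a⁻¹ ∈ S.ZL ↔ a ∈ S.ZL := S.ZL.inv_mem_iff

/-- `Z L` is normal in `C(w)` -/
theorem conj_mem [Finite X] {a b : X} (ha : a * w = w * a) (hb : b ∈ S.ZL) : a * b * a⁻¹ ∈ S.ZL := by
  have hbw : b * w = w * b := mem_centralizer_singleton_iff.mp (S.ZL_le hb)
  rw [S.mul_mem_iff (mul_w ha hbw) (inv_w ha), S.mul_mem_iff ha hbw, S.inv_mem_iff]
  tauto

/-- commutators in `C(w)` -/
theorem comm_mem [Finite X] {a b : X} (ha : a * w = w * a) (hb : b * w = w * b) : a * b * a⁻¹ * b⁻¹ ∈ S.ZL := by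
  rw [S.mul_mem_iff (mul_w (mul_w ha hb) (inv_w ha)) (inv_w hb), S.mul_mem_iff (mul_w ha hb) (inv_w ha),
    S.mul_mem_iff ha hb, S.inv_mem_iff, S.inv_mem_iff]
  tauto

/-- `[Z L, Z L] = L` -/
theorem comm_ZL : ⁅S.ZL, S.ZL⁆ = L := by
  apply le_antisymm
  · rw [commutator_le]
    rintro _ ⟨a, ha, l, hl, rfl⟩ _ ⟨b, hb, m, hm, rfl⟩
    have h1 := S.cent_LZ l hl b hb
    have h2 := S.cent_LZ m hm a ha
    have h3 := S.Z_comm a ha b hb
    have e : ⁅a * l, b * m⁆ = l * m * l⁻¹ * m⁻¹ := by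
      have h4 : a * l * (b * m) = a * b * (l * m) := by
        calc a * l * (b * m) = a * (l * b) * m := by group
          _ = a * (b * l) * m := by rw [h1]
          _ = a * b * (l * m) := by group
      have h5 : b * m * (a * l) = a * b * (m * l) := by
        calc b * m * (a * l) = b * (m * a) * l := by group
          _ = b * (a * m) * l := by rw [h2]
          _ = (b * a) * (m * l) := by group
          _ = a * b * (m * l) := by rw [h3]
      have h6 : l * m * (a * b) = a * b * (l * m) := S.cent_LZ _ (L.mul_mem hl hm) _ (S.Z.mul_mem ha hb)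
      have h7 : m * l * (a * b) = a * b * (m * l) := S.cent_LZ _ (L.mul_mem hm hl) _ (S.Z.mul_mem ha hb)
      rw [commutatorElement_def]
      calc a * l * (b * m) * (a * l)⁻¹ * (b * m)⁻¹ = a * l * (b * m) * (b * m * (a * l))⁻¹ := by group
        _ = a * b * (l * m) * (a * b * (m * l))⁻¹ := by rw [h4, h5]
        _ = l * m * (a * b) * (m * l * (a * b))⁻¹ := by rw [h6, h7]
        _ = l * m * l⁻¹ * m⁻¹ := by group
    rw [e]
    exact L.mul_mem (L.mul_mem (L.mul_mem hl hm) (L.inv_mem hl)) (L.inv_mem hm)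
  · calc L = ⁅L, L⁆ := S.perf.symm
      _ ≤ ⁅S.ZL, S.ZL⁆ := commutator_mono S.L_le S.L_le

/-- `L` is normal in `C(w)` -/
theorem conj_L [Finite X] {c l : X} (hc : c * w = w * c) (hl : l ∈ L) : c * l * c⁻¹ ∈ L := by
  have h1 : L ≤ L.comap (MulAut.conj c).toMonoidHom := by
    conv_lhs => rw [← S.comm_ZL]
    rw [commutator_le]
    intro a ha b hb
    show c * ⁅a, b⁆ * c⁻¹ ∈ L
    have e : c * ⁅a, b⁆ * c⁻¹ = ⁅c * a * c⁻¹, c * b * c⁻¹⁆ := by
      rw [commutatorElement_def, commutatorElement_def]; group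
    rw [e, ← S.comm_ZL]
    exact commutator_mem_commutator (S.conj_mem hc ha) (S.conj_mem hc hb)
  exact h1 hl

/-- a perfect subgroup of `C(w)` is contained in `L` -/
theorem le_of_perfect [Finite X] {P : Subgroup X} (hP : ⁅P, P⁆ = P) (hc : ∀ p ∈ P, p * w = w * p) : P ≤ L := by
  have h1 : P ≤ S.ZL := by
    conv_lhs => rw [← hP]
    rw [commutator_le]
    intro a ha b hb
    exact S.comm_mem (hc a ha) (hc b hb)
  calc P = ⁅P, P⁆ := hP.symm
    _ ≤ ⁅S.ZL, S.ZL⁆ := commutator_mono h1 h1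
    _ = L := S.comm_ZL

/-- a normal subgroup of `C(w)` which does not contain `L` is contained in `Z` -/
theorem le_Z [Finite X] {N : Subgroup X} (hle : ∀ n ∈ N, n * w = w * n)
    (hn : ∀ c, c * w = w * c → ∀ n ∈ N, c * n * c⁻¹ ∈ N) (hL : ¬ L ≤ N) : N ≤ S.Z := by
  have := S.simple
  have hbot : ∀ x ∈ N, x ∈ L → x = 1 := by
    have hnorm : (N.subgroupOf L).Normal := ⟨fun n hn' l => hn l (S.Lw l l.2) n hn'⟩
    rcases hnorm.eq_bot_or_eq_top with h | h
    · intro x hx hxL
      have : (⟨x, hxL⟩ : L) ∈ N.subgroupOf L := hx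
      rw [h, mem_bot] at this
      exact congrArg Subtype.val this
    · exact absurd (subgroupOf_eq_top.mp h) hL
  intro n hn'
  apply S.cent _ (hle n hn')
  intro l hl
  have h1 : n * (l * n⁻¹ * l⁻¹) ∈ N := N.mul_mem hn' (hn l (S.Lw l hl) n⁻¹ (N.inv_mem hn'))
  have h2 : n * l * n⁻¹ * l⁻¹ ∈ L := L.mul_mem (S.conj_L (hle n hn') hl) (L.inv_mem hl)
  have h3 : n * l * n⁻¹ * l⁻¹ = 1 := hbot _ (by
    have e : n * l * n⁻¹ * l⁻¹ = n * (l * n⁻¹ * l⁻¹) := by group
    rw [e]; exact h1) h2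
  calc n * l = (n * l * n⁻¹ * l⁻¹) * l * n := by group
    _ = l * n := by rw [h3, one_mul]

/-- `Bad w N` -/
theorem eq_Z [Finite X] {N : Subgroup X} (h : Bad w N) : N = S.Z := by
  have h1 : ¬ L ≤ N := fun hL => h.non z (hL S.zL) S.zz S.z1 S.zc
  have h2 := S.le_Z h.le h.norm h1
  apply eq_of_le_of_card_ge h2
  rw [S.card_Z]
  exact Nat.le_of_dvd Nat.card_pos h.four

/-- `O(C(w)) = 1` -/
theorem bal [Finite X] {I : Subgroup X} (hI : ∀ i ∈ I, i * w = w * i)
    (hn : ∀ c, c * w = w * c → ∀ i ∈ I, c * i * c⁻¹ ∈ I) (ho : Odd (Nat.card I)) : I = ⊥ := by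
  have key : ∀ i ∈ I, i * i = 1 → i = 1 := by
    intro i hi hii
    have h3 : orderOf i ∣ 2 := orderOf_dvd_of_pow_eq_one (by rw [pow_two]; exact hii)
    have h4 : orderOf i ∣ Nat.card I := by
      have := orderOf_dvd_natCard (⟨i, hi⟩ : I)
      rwa [Subgroup.orderOf_mk] at this
    have h5 : orderOf i ∣ 1 := by
      have := Nat.dvd_gcd h3 h4
      rwa [Nat.Coprime.gcd_eq_one (Nat.coprime_two_left.2 ho)] at this
    exact orderOf_eq_one_iff.1 (Nat.dvd_one.1 h5)
  have h1 : I ≤ S.Z := S.le_Z hI hn fun hL => S.z1 (key z (hL S.zL) S.zz)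
  rw [eq_bot_iff]
  intro i hi
  rw [mem_bot]
  apply key i hi
  rcases h1 hi with rfl | rfl | rfl | rfl
  · exact mul_one 1
  · exact S.ww
  · exact S.vv
  · calc w * v * (w * v) = w * (v * w) * v := by group
      _ = (w * w) * (v * v) := by rw [← S.comm]; group
      _ = 1 := by rw [S.ww, S.vv, one_mul]

theorem sig : Sig S.Z L where
  conj := by
    obtain ⟨k, hk⟩ := S.wz
    have hne : ((⟨z, S.zL⟩ : L) : X) ≠ 1 := S.z1
    have hr : r * z = z * r := (S.Lr z S.zL).symm
    have hk2 : r * k * r⁻¹ * v * (r * k * r⁻¹)⁻¹ = v * z := by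
      calc r * k * r⁻¹ * v * (r * k * r⁻¹)⁻¹ = r * k * (r⁻¹ * (r * w * r⁻¹) * r) * k⁻¹ * r⁻¹ := by rw [S.rw]; group
        _ = r * (k * w * k⁻¹) * r⁻¹ := by group
        _ = r * w * (z * r⁻¹) := by rw [hk]; group
        _ = r * w * (r⁻¹ * z) := by
          congr 1
          rw [eq_inv_mul_iff_mul_eq, ← mul_assoc, hr, mul_assoc, mul_inv_cancel, mul_one]
        _ = (r * w * r⁻¹) * z := by group
        _ = v * z := by rw [S.rw]
    rintro a (rfl | rfl | rfl | rfl) - ha1
    · exact absurd rfl ha1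
    · exact ⟨k, ⟨z, S.zL⟩, hne, hk, S.zcL⟩
    · exact ⟨r * k * r⁻¹, ⟨z, S.zL⟩, hne, hk2, S.zcL⟩
    · refine ⟨r * (r * k * r⁻¹) * r⁻¹, ⟨z, S.zL⟩, hne, ?_, S.zcL⟩
      show r * (r * k * r⁻¹) * r⁻¹ * (w * v) * (r * (r * k * r⁻¹) * r⁻¹)⁻¹ = w * v * z
      calc r * (r * k * r⁻¹) * r⁻¹ * (w * v) * (r * (r * k * r⁻¹) * r⁻¹)⁻¹
          = r * (r * k * r⁻¹) * r⁻¹ * (r * v * r⁻¹) * (r * (r * k * r⁻¹) * r⁻¹)⁻¹ := by rw [S.rv]
        _ = r * (r * k * r⁻¹ * v * (r * k * r⁻¹)⁻¹) * r⁻¹ := by group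
        _ = r * v * (z * r⁻¹) := by rw [hk2]; group
        _ = r * v * (r⁻¹ * z) := by
          congr 1
          rw [eq_inv_mul_iff_mul_eq, ← mul_assoc, hr, mul_assoc, mul_inv_cancel, mul_one]
        _ = (r * v * r⁻¹) * z := by group
        _ = w * v * z := by rw [S.rv]
  cen := by
    intro l hl hl1 hC
    obtain ⟨g, hg⟩ := S.zconj l hl hl1 hC
    have h1 : (l : X) = (g : X)⁻¹ * z * (g : X)⁻¹⁻¹ := by
      have h2 : (g : X) * l * (g : X)⁻¹ = z := congrArg Subtype.val hg
      rw [← h2]; group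
    rw [h1]
    obtain ⟨T, hT⟩ := S.zc
    refine ⟨(g : X)⁻¹ • T, ?_⟩
    intro s hs
    rw [Sylow.smul_def] at hs
    obtain ⟨t, ht, rfl⟩ := hs
    have h3 := hT t ht
    show (g : X)⁻¹ * t * (g : X)⁻¹⁻¹ * ((g : X)⁻¹ * z * (g : X)⁻¹⁻¹) =
      (g : X)⁻¹ * z * (g : X)⁻¹⁻¹ * ((g : X)⁻¹ * t * (g : X)⁻¹⁻¹)
    calc (g : X)⁻¹ * t * (g : X)⁻¹⁻¹ * ((g : X)⁻¹ * z * (g : X)⁻¹⁻¹) = (g : X)⁻¹ * (t * z) * (g : X)⁻¹⁻¹ := by group
      _ = (g : X)⁻¹ * (z * t) * (g : X)⁻¹⁻¹ := by rw [h3]
      _ = _ := by group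

theorem vfacts [Finite X] : VFacts S.Z L where
  comm := S.Z_comm
  perf := S.perf
  cent := S.cent_LZ
  max := fun _ hP hc => S.le_of_perfect hP fun p hp => hc p hp w S.w_mem
  kill := Or.inr S.sig

end Setup

end Cfsg.Agent.KFacts.Co1D4.Abs
end

-- part: KFacts/Co1D4/TwoB
section
/-!
# The centralizer of the involution `w` of class 2B of `Co₁`
-/

set_option autoImplicit false
set_option Elab.async false
open Cfsg

namespace Cfsg.Agent.KFacts.Co1D4.TwoB

open Cfsg.Agent.SporadicA.Co0Mono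
open Cfsg.Agent.SporadicA.Co1Simple (allOne)
open Cfsg.Agent.CoOneType Cfsg.Agent.CoOneType.CoEval
open Cfsg.Agent.CoOneType.ClosingFacts (mk mk_mul mk_inv exists_mk mk_eq_one mk_eq)
open Cfsg.Agent.CoOneType.InvMain (b0 conj_b0_of_sq_neg)
open Cfsg.Agent.StdG24
open Cfsg.Agent.OddHalf.D4.Spor (Cen)
open scoped commutatorElement

/-- the lift of `w` -/
noncomputable abbrev k : Co0 := Letters.e 6
/-- the lift of `v2` -/
noncomputable abbrev u : Co0 := Letters.e 12
/-- the lift of `z` -/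
noncomputable abbrev t : Co0 := (Letters.zw.map Letters.e).prod

theorem negCo0_eq : SporadicA.Co0Basic.negCo0 = signCo0 allOne := ClosingFacts.neg_eq

theorem k_sq : k * k = signCo0 allOne := by
  rw [← negCo0_eq]
  have h := eq_neg_of_negB Letters.hM (w := [6, 6]) (by decide +kernel)
  simpa using h

theorem u_sq : u * u = signCo0 allOne := by
  rw [← negCo0_eq]
  have h := eq_neg_of_negB Letters.hM (w := [12, 12]) (by decide +kernel)
  simpa using h

theorem ku_sq : k * u * (k * u) = signCo0 allOne := by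
  rw [← negCo0_eq]
  have h := eq_neg_of_negB Letters.hM (w := [6, 12, 6, 12]) (by decide +kernel)
  simpa [mul_assoc] using h

theorem ku : k * u = signCo0 allOne * (u * k) := by
  set J := signCo0 allOne with hJ
  have hJJ : J * J = 1 := signCo0_mul_self _
  have hc : ∀ g : Co0, g * J = J * g := SignFacts.sign_allOne_comm
  have h1 : k * u * (k * u) = J := ku_sq
  have h2 : u * k * (k * u) = 1 := by
    calc u * k * (k * u) = u * (k * k) * u := by group
      _ = u * J * u := by rw [k_sq]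
      _ = J * (u * u) := by rw [hc]; group
      _ = 1 := by rw [u_sq, hJJ]
  have h3 : k * u = J * (k * u)⁻¹ := eq_mul_inv_of_mul_eq h1
  have h4 : u * k = (k * u)⁻¹ := eq_inv_of_mul_eq_one_left h2
  rw [h4, ← h3]

theorem t_comm : t * k = k * t := by
  have h : ∀ i ∈ Letters.zw, Letters.e i * k = k * Letters.e i := by
    have h0 : ∀ i ∈ Letters.zw, i < 6 := by decide
    intro i hi
    exact (Letters.e_comm ⟨i, h0 i hi⟩).1
  unfold t
  generalize Letters.zw = l at h
  induction l with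
  | nil => simp
  | cons i l ih =>
    rw [List.map_cons, List.prod_cons, mul_assoc, ih fun j hj => h j (List.mem_cons_of_mem _ hj), ← mul_assoc,
      h i List.mem_cons_self, mul_assoc]

theorem t_sq : t * t = 1 := Letters.zw_sq

/-- The elements in `Co1`. -/
noncomputable abbrev w : Spor.Co1 := mk k
noncomputable abbrev v : Spor.Co1 := mk u
noncomputable abbrev r : Spor.Co1 := mk (Letters.e 13)
noncomputable abbrev z : Spor.Co1 := mk t

theorem mk_allOne : mk (signCo0 allOne) = 1 := (mk_eq_one _).2 (Or.inr rfl)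

theorem ww : w * w = 1 := by rw [← mk_mul, k_sq, mk_allOne]
theorem vv : v * v = 1 := by rw [← mk_mul, u_sq, mk_allOne]

theorem wv : w * v = v * w := by
  rw [← mk_mul, ku, mk_mul, mk_allOne, one_mul, mk_mul]

private theorem e_mid (n : ℕ) (h : 5 < n) (h2 : n < 12) : Letters.e n = Model.e 6 := by
  unfold Letters.e
  split <;> first | rfl | omega

theorem w_eq : w = Model.w := congrArg mk (e_mid 6 (by decide) (by decide))
theorem v_eq : v = CoSide.v2 := rfl
theorem r_eq : r = CoSide.rho := rfl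

theorem v_ne : v ≠ 1 := by rw [v_eq]; exact CoSide.v2_ne_one
theorem vw : v ≠ w := by rw [v_eq, w_eq]; exact CoSide.v2_ne_w

theorem w_ne : w ≠ 1 := by
  intro h
  have h1 : CoSide.rho * Model.w * CoSide.rho⁻¹ = CoSide.v2 := CoSide.rho_conj
  have h2 : Model.w = 1 := w_eq.symm.trans h
  rw [h2] at h1
  exact v_ne (by rw [v_eq, ← h1]; group)

theorem rw_ : r * w * r⁻¹ = v := by rw [r_eq, w_eq, v_eq]; exact CoSide.rho_conj

theorem rv : r * v * r⁻¹ = w * v := by
  have h : CoSide.rho * CoSide.v2 = Model.w * CoSide.v2 * CoSide.rho := CoSide.rho_v2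
  rw [r_eq, w_eq, v_eq, h, mul_inv_cancel_right]

theorem Lw : ∀ l ∈ GTwo.L, l * w = w * l := GTwo.comm_of fun i => by
  show mk (Letters.e i.val) * mk k = mk k * mk (Letters.e i.val)
  rw [← mk_mul, (Letters.e_comm i).1, mk_mul]

theorem Lv : ∀ l ∈ GTwo.L, l * v = v * l := GTwo.comm_of fun i => by
  show mk (Letters.e i.val) * mk u = mk u * mk (Letters.e i.val)
  rw [← mk_mul, (Letters.e_comm i).2.1, mk_mul]

theorem Lr : ∀ l ∈ GTwo.L, l * r = r * l := GTwo.comm_of fun i => by
  show mk (Letters.e i.val) * mk (Letters.e 13) = mk (Letters.e 13) * mk (Letters.e i.val)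
  rw [← mk_mul, (Letters.e_comm i).2.2, mk_mul]

theorem z_eq : z = ((GTwo.φ Inv6.lz : GTwo.L) : Spor.Co1) := by
  rw [GTwo.φ_lz]
  exact (map_prod_pr Letters.e Letters.zw).symm

theorem zL : z ∈ GTwo.L := by rw [z_eq]; exact (GTwo.φ Inv6.lz).2

theorem z_eq' : (⟨z, zL⟩ : GTwo.L) = GTwo.φ Inv6.lz := Subtype.ext z_eq

theorem zz : z * z = 1 := by rw [← mk_mul, t_sq]; rfl

theorem z_ne : z ≠ 1 := by
  have h := Letters.zw_ne
  unfold Letters.val at h
  rw [map_prod_pr] at h
  exact h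

theorem zc : Cen z := Base.cen_of_trace t_sq Letters.tr8_zw

theorem cen_map {A B : Type*} [Group A] [Group B] (e : A ≃* B) {a : A} (h : Cen a) : Cen (e a) :=
  OddHalf.D4.Spor.Cen.map e h

theorem zcL : Cen (⟨z, zL⟩ : GTwo.L) := by
  rw [z_eq']
  exact cen_map GTwo.φ SixCen.cen_lz

theorem zconj (s : GTwo.L) (hs : s * s = 1) (hs1 : s ≠ 1) (hc : Cen s) :
    ∃ g : GTwo.L, g * s * g⁻¹ = ⟨z, zL⟩ := by
  obtain ⟨g, hg⟩ := SixCen.conj_z_of_cen (t := GTwo.φ.symm s) (by rw [← map_mul, hs, map_one])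
    (by
      intro h
      apply hs1
      rw [← GTwo.φ.apply_symm_apply s, h, map_one])
    (cen_map GTwo.φ.symm hc)
  refine ⟨GTwo.φ g, ?_⟩
  rw [z_eq', ← hg, map_mul, map_mul, map_inv, GTwo.φ.apply_symm_apply]

theorem conj_mul_of {k t : Co0} (hk : k * k = signCo0 allOne) (ht : t * t = 1) (htk : t * k = k * t) :
    ∃ g : Spor.Co1, g * mk k * g⁻¹ = mk k * mk t := by
  have h1 : (k * t) * (k * t) = signCo0 allOne := by
    calc k * t * (k * t) = k * (t * k) * t := by group
      _ = k * k * (t * t) := by rw [htk]; group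
      _ = signCo0 allOne := by rw [ht, mul_one, hk]
  obtain ⟨g, hg⟩ := conj_b0_of_sq_neg k hk
  obtain ⟨g', hg'⟩ := conj_b0_of_sq_neg (k * t) h1
  refine ⟨mk (g'⁻¹ * g), ?_⟩
  have h2 : g'⁻¹ * g * k * (g'⁻¹ * g)⁻¹ = k * t := by
    calc g'⁻¹ * g * k * (g'⁻¹ * g)⁻¹ = g'⁻¹ * (g * k * g⁻¹) * g' := by group
      _ = g'⁻¹ * (g' * (k * t) * g'⁻¹) * g' := by rw [hg, hg']
      _ = k * t := by group
  exact congrArg mk h2

theorem wz : ∃ g : Spor.Co1, g * w * g⁻¹ = w * z := conj_mul_of k_sq t_sq t_comm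

/-- The set-up, from the two facts on the centralizer. -/
theorem setup (hcard : Nat.card (Subgroup.centralizer ({w} : Set Spor.Co1)) ≤ 8 * Nat.card GTwo.L)
    (hcent : ∀ g, g * w = w * g → (∀ l ∈ GTwo.L, g * l = l * g) → g = 1 ∨ g = w ∨ g = v ∨ g = w * v) :
    Abs.Setup w v r z GTwo.L where
  ww := ww
  vv := vv
  w1 := w_ne
  v1 := v_ne
  vw := vw
  comm := wv
  rw := rw_
  rv := rv
  Lw := Lw
  Lv := Lv
  Lr := Lr
  simple := GTwo.simple_L
  perf := GTwo.perf_L
  card := hcard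
  zL := zL
  zz := zz
  z1 := z_ne
  zc := zc
  zcL := zcL
  zconj := zconj
  wz := wz
  cent := hcent

/-- the centre of `L` is trivial -/
theorem center_L (g : Spor.Co1) (hg : g ∈ GTwo.L) (h : ∀ l ∈ GTwo.L, g * l = l * g) : g = 1 := by
  have := GTwo.simple_L
  have hn : (Subgroup.center GTwo.L).Normal := inferInstance
  rcases hn.eq_bot_or_eq_top with h1 | h1
  · have : (⟨g, hg⟩ : GTwo.L) ∈ Subgroup.center GTwo.L := Subgroup.mem_center_iff.mpr fun l => Subtype.ext (h l l.2).symm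
    rw [h1, Subgroup.mem_bot] at this
    exact congrArg Subtype.val this
  · exfalso
    have h2 : ∀ a b : GTwo.L, a * b = b * a := fun a b => by
      have : b ∈ Subgroup.center GTwo.L := by rw [h1]; exact Subgroup.mem_top b
      exact Subgroup.mem_center_iff.mp this a
    have h3 : ⁅GTwo.L, GTwo.L⁆ = ⊥ := by
      rw [Subgroup.commutator_eq_bot_iff_le_centralizer]
      intro a ha
      rw [Subgroup.mem_centralizer_iff]
      intro b hb
      exact congrArg Subtype.val (h2 ⟨b, hb⟩ ⟨a, ha⟩)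
    rw [GTwo.perf_L] at h3
    apply z_ne
    have := zL
    rw [h3, Subgroup.mem_bot] at this
    exact this

/-- every involution of class 2B is conjugate to `w` -/
theorem conj_w (g : Spor.Co1) : ∃ g' : Spor.Co1, g * mk b0 * g⁻¹ = g' * w * g'⁻¹ := by
  obtain ⟨h, hh⟩ := conj_b0_of_sq_neg k k_sq
  refine ⟨g * mk h, ?_⟩
  have h1 : mk b0 = mk h * w * (mk h)⁻¹ := by rw [← hh]; rfl
  rw [h1]; group

end Cfsg.Agent.KFacts.Co1D4.TwoB
end

private theorem dce_cf1de98c3296 : _root_.True := by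
  try have : _root_.True := by simp only [_root_.Cfsg.Agent.KFacts.Co1D4.Abs.Setup.Z.congr_simp]
  exact _root_.True.intro
end

-- part: OddHalf/D4/EvenCyc
section
prune_inst 0x100000000000000000000000002040100001000023000140000c000000050100040700b080160011002a20200a800000000049003800002000820040040000042860c00200100021000040c801180c00000000000000000000000000000000000000000
set_option linter.all false
open scoped Cfsg.Agent.FastGrp

/-!
# ODD, D4: `Z(K)` cyclic and nontrivial, `m_2(C(K)) ≥ 2` (text: helper378, ODD #9543)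

`z` the involution of `Z(K)`, `M = N(K) = C_G(z)`, `Σ = z^G`.

* (II) `false_of_no_pair`: if `Aut K` satisfies (P2) `SqDiff`, some `a ∈ Σ`, `a ≠ z`, commutes with an involution
  `c ≠ z` of `C(K)`.
* (I) `no_pair`: if `Aut K` satisfies (P1) `PairFree`, this is impossible.
* `main`, `row`: (P1) and (P2) for `K` imply `m_2(C(K)) ≤ 1`.
-/

set_option autoImplicit false

namespace Cfsg.Agent.OddHalf.D4.EvenCyc

open Cfsg Subgroup Basic
open Cfsg.Agent.OddHalf.D4.CommConj (Tight cj mem_cj cj_mul card_cj cj_eq_of_mem_normalizer mem_normalizer_of_cj_eq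
  mem_cj_mul exists_norm_elt)

/-- (P1) no commuting involutory automorphisms `α ≠ β` with `C(α) ≤ C(β)` and `C(αβ) ≤ C(β)`. -/
def PairFree (X : Type*) [Group X] : Prop :=
  ∀ α β : MulAut X, α * α = 1 → β * β = 1 → α * β = β * α → α ≠ 1 → β ≠ 1 → α ≠ β →
    (∀ x, α x = x → β x = x) → ¬ ∀ x, α (β x) = x → β x = x

/-- (P2) for every involutory automorphism `α` some `y = α(x)⁻¹ x`, not in the centre, has `y² = 1`. -/
def SqDiff (X : Type*) [Group X] : Prop :=
  ∀ α : MulAut X, α * α = 1 → α ≠ 1 →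
    ∃ x : X, (α x)⁻¹ * x ∉ center X ∧ ((α x)⁻¹ * x) * ((α x)⁻¹ * x) = 1

/-- The setting. -/
structure Ev {G : Type*} [Group G] (K : Subgroup G) (z : G) : Prop where
  std : IsStandardSubgroup K
  zK : z ∈ K
  zC : z ∈ centralizer (K : Set G)
  z2 : orderOf z = 2
  uniq : ∀ x ∈ K, x ∈ centralizer (K : Set G) → orderOf x = 2 → x = z

section Aux

variable {G : Type*} [Group G]

theorem mul_self_of_order {x : G} (h : orderOf x = 2) : x * x = 1 := by
  rw [← pow_two, ← h, pow_orderOf_eq_one]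

theorem order_of_mul_self {x : G} (h : x * x = 1) (h1 : x ≠ 1) : orderOf x = 2 :=
  orderOf_eq_prime (by rw [pow_two, h]) h1

/-- a cyclic group has at most one involution -/
theorem eq_of_cyclic {Z : Type*} [Group Z] [Finite Z] [IsCyclic Z] {x y : Z} (hx : orderOf x = 2)
    (hy : orderOf y = 2) : x = y := by
  classical
  haveI := Fintype.ofFinite Z
  by_contra hne
  have hcard := IsCyclic.card_pow_eq_one_le (α := Z) (n := 2) (by norm_num)
  have hx1 : x ≠ 1 := fun h => by rw [h, orderOf_one] at hx; omega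
  have hy1 : y ≠ 1 := fun h => by rw [h, orderOf_one] at hy; omega
  have hsub : ({1, x, y} : Finset Z) ⊆ Finset.univ.filter (fun a : Z => a ^ 2 = 1) := by
    intro a ha
    simp only [Finset.mem_insert, Finset.mem_singleton] at ha
    simp only [Finset.mem_filter, Finset.mem_univ, true_and]
    rcases ha with rfl | rfl | rfl
    · exact one_pow 2
    · exact orderOf_dvd_iff_pow_eq_one.mp hx.dvd
    · exact orderOf_dvd_iff_pow_eq_one.mp hy.dvd
  have h3 : ({1, x, y} : Finset Z).card = 3 := by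
    rw [Finset.card_eq_three]
    exact ⟨1, x, y, hx1.symm, hy1.symm, hne, rfl⟩
  have := Finset.card_le_card hsub
  omega

/-- In a simple group an involution commutes with another conjugate (Z*). -/
theorem exists_conj_comm [Finite G] [IsSimpleGroup G] (hna : ∃ a b : G, a * b ≠ b * a) {z : G}
    (hz : orderOf z = 2) : ∃ g : G, g * z * g⁻¹ ≠ z ∧ (g * z * g⁻¹) * z = z * (g * z * g⁻¹) := by
  haveI : Fact (Nat.Prime 2) := ⟨Nat.prime_two⟩
  by_contra hcon
  push Not at hcon
  obtain ⟨P, hP⟩ := IsPGroup.exists_le_sylow (p := 2) (P := zpowers z) (by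
    rw [IsPGroup.iff_card]
    exact ⟨1, by rw [Nat.card_zpowers, hz, pow_one]⟩)
  have hzP : z ∈ P := hP (mem_zpowers z)
  -- `z` is central in `P`
  have hcent : ∀ x ∈ (P : Subgroup G), x * z = z * x := by
    by_contra hne
    push Not at hne
    obtain ⟨x, hx, hxz⟩ := hne
    obtain ⟨b, hb, hbE, -, hbn⟩ := exists_norm_elt (S := (P : Subgroup G))
      (E := (P : Subgroup G) ⊓ centralizer ({z} : Set G)) (B := P) P.2 inf_le_left le_rfl
      (fun s hs b hb => mul_mem (mul_mem hs hb) (inv_mem hs))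
      (fun h => hxz (mem_centralizer_singleton_iff.mp (h hx).2))
    have hzE : z ∈ (P : Subgroup G) ⊓ centralizer ({z} : Set G) :=
      ⟨hzP, mem_centralizer_singleton_iff.mpr rfl⟩
    have h1 : b * z * b⁻¹ ∈ (P : Subgroup G) ⊓ centralizer ({z} : Set G) := by
      have := (mem_normalizer_iff.mp hbn z).mp hzE
      exact this
    have h2 := mem_centralizer_singleton_iff.mp h1.2
    have h3 : b * z * b⁻¹ = z := by
      by_contra hne
      exact hcon b hne h2
    apply hbE
    refine ⟨hb, mem_centralizer_singleton_iff.mpr ?_⟩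
    calc b * z = (b * z * b⁻¹) * b := by group
      _ = z * b := by rw [h3]
  obtain ⟨N, hN, hodd, hcomm⟩ := Cfsg.Agent.S0215.result P z hz hzP (fun g hg => by
    by_contra hne
    exact hcon g hne (hcent _ hg))
  rcases hN.eq_bot_or_eq_top with h | h
  · have hzc : z ∈ center G := by
      rw [mem_center_iff]
      intro g
      have h1 := hcomm g
      rw [h, mem_bot] at h1
      calc g * z = (z * g * z⁻¹ * g⁻¹)⁻¹ * (z * g) := by group
        _ = z * g := by rw [h1, inv_one, one_mul]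
    rcases (inferInstance : (center G).Normal).eq_bot_or_eq_top with h2 | h2
    · rw [h2, mem_bot] at hzc
      rw [hzc, orderOf_one] at hz
      omega
    · obtain ⟨a, b, hab⟩ := hna
      have : a ∈ center G := by rw [h2]; exact mem_top a
      exact hab (mem_center_iff.mp this b).symm
  · rw [h, card_top] at hodd
    have h2 : 2 ∣ Nat.card G := by rw [← hz]; exact orderOf_dvd_natCard z
    rw [Nat.odd_iff] at hodd
    omega

end Aux

section Main

variable {G : Type*} [Group G] [Finite G] {K : Subgroup G} {z : G}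

namespace Ev

theorem tight (E : Ev K z) : Tight (centralizer (K : Set G)) (normalizer (K : Set G)) :=
  EvenPair.tight_of_standard E.std

/-- `N(K) = C_G(z)` -/
theorem mem_iff (E : Ev K z) {g : G} : g ∈ normalizer (K : Set G) ↔ g * z = z * g := by
  constructor
  · intro h
    have h1 : g * z * g⁻¹ ∈ K := (mem_normalizer_iff.mp h z).mp E.zK
    have h2 : g * z * g⁻¹ ∈ centralizer (K : Set G) := E.tight.norm g h z E.zC
    have h3 := E.uniq _ h1 h2 (by rw [orderOf_conj]; exact E.z2)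
    calc g * z = (g * z * g⁻¹) * g := by group
      _ = z * g := by rw [h3]
  · intro h
    refine E.tight.tight g z E.zC E.z2 ?_
    have : g * z * g⁻¹ = z := by rw [h]; group
    rw [this]
    exact E.zC

/-- the centralizer of an involution of `C(K)` is in `N(K)` -/
theorem mem_of_comm (E : Ev K z) {c y : G} (hc : c ∈ centralizer (K : Set G)) (h2 : orderOf c = 2)
    (hy : y * c = c * y) : y ∈ normalizer (K : Set G) := by
  refine E.tight.tight y c hc h2 ?_
  have : y * c * y⁻¹ = c := by rw [hy]; group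
  rw [this]
  exact hc

theorem z_ne_one (E : Ev K z) : z ≠ 1 := by
  intro h
  have := E.z2
  rw [h, orderOf_one] at this
  omega

/-- `Σ ∩ C(K) = {z}`, in the form: an element of `C(K) ∩ C(K)^g` of even order... -/
theorem conj_eq (E : Ev K z) {g : G} (h : g * z * g⁻¹ ∈ centralizer (K : Set G)) : g * z * g⁻¹ = z := by
  have h1 : g ∈ normalizer (K : Set G) := E.tight.tight g z E.zC E.z2 h
  rw [E.mem_iff.mp h1]
  group

/-- an involution `c ∈ C(K)` with `g⁻¹cg ∈ C(K)`: `g` commutes with `z` -/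
theorem comm_of_both (E : Ev K z) {g c : G} (hc : c ∈ centralizer (K : Set G)) (h2 : orderOf c = 2)
    (h : g⁻¹ * c * g ∈ centralizer (K : Set G)) : g * z = z * g := by
  rw [← E.mem_iff]
  have h1 : g⁻¹ ∈ normalizer (K : Set G) := by
    refine E.tight.tight g⁻¹ c hc h2 ?_
    simpa using h
  simpa using inv_mem h1

/-- Some commuting pair `z`, `a ∈ z^G`, `a ≠ z`, and an involution `c ≠ z` of `C(K)` commuting with `a`. -/
def HasPair (K : Subgroup G) (z : G) : Prop :=
  ∃ g c : G, g * z * g⁻¹ ≠ z ∧ c ∈ centralizer (K : Set G) ∧ orderOf c = 2 ∧ c ≠ z ∧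
    c * (g * z * g⁻¹) = (g * z * g⁻¹) * c

omit [Finite G] in
theorem z_comm (E : Ev K z) {n : G} (hn : n ∈ centralizer (K : Set G)) : n * z = z * n :=
  (mem_centralizer_iff.mp hn z E.zK).symm

/-- (a) -/
theorem move (E : Ev K z) (hNP : ¬ HasPair K z) {c : G} (hc : c ∈ centralizer (K : Set G))
    (hc2 : orderOf c = 2) (hcz : c ≠ z) {g : G} (hne : g * z * g⁻¹ ≠ z)
    (hcomm : (g * z * g⁻¹) * z = z * (g * z * g⁻¹)) :
    ∃ n ∈ centralizer (K : Set G), n * (g * z * g⁻¹) * n⁻¹ = (g * z * g⁻¹) * z := by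
  haveI : Fact (Nat.Prime 2) := ⟨Nat.prime_two⟩
  set u := g * z * g⁻¹ with hu
  have hu2 : orderOf u = 2 := by rw [hu, orderOf_conj]; exact E.z2
  have huM : u ∈ normalizer (K : Set G) := E.mem_iff.mpr hcomm
  have hNP' : ∀ x ∈ centralizer (K : Set G), orderOf x = 2 → x * u = u * x → x = z := by
    intro x hx hx2 hxu
    by_contra hxz
    exact hNP ⟨g, x, hne, hx, hx2, hxz, hxu⟩
  obtain ⟨T, hT, huT⟩ := exists_isSyl (M := normalizer (K : Set G)) (Q := zpowers u) (by
    rw [IsPGroup.iff_card]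
    exact ⟨1, by rw [Nat.card_zpowers, hu2, pow_one]⟩) (by rwa [zpowers_le])
  have hTC : T ≤ normalizer ((centralizer (K : Set G) : Subgroup G) : Set G) := by
    intro t ht
    rw [mem_normalizer_iff]
    intro x
    constructor
    · exact E.tight.norm t (hT.le ht) x
    · intro h
      have := E.tight.norm t⁻¹ (inv_mem (hT.le ht)) _ h
      have h2 : t⁻¹ * (t * x * t⁻¹) * t⁻¹⁻¹ = x := by group
      rwa [h2] at this
  obtain ⟨i, hi, hic⟩ := hT.conj_into_inf E.tight.le hTC (Q := zpowers c) (by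
    rw [IsPGroup.iff_card]
    exact ⟨1, by rw [Nat.card_zpowers, hc2, pow_one]⟩) (by rwa [zpowers_le])
  have hc' := hic c (mem_zpowers c)
  have hc'z : i * c * i⁻¹ ≠ z := by
    intro h
    apply hcz
    have h1 := E.z_comm hi
    calc c = i⁻¹ * (i * c * i⁻¹) * i := by group
      _ = i⁻¹ * (z * i) := by rw [h]; group
      _ = z := by rw [← h1]; group
  have huT' : u ∈ T := huT (mem_zpowers u)
  obtain ⟨b, hb, hbE, -, hbn⟩ := exists_norm_elt (S := T) (E := T ⊓ centralizer ({u} : Set G))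
    (B := T ⊓ centralizer (K : Set G)) hT.two inf_le_left inf_le_left
    (fun s hs b hb => ⟨T.mul_mem (T.mul_mem hs hb.1) (T.inv_mem hs),
      E.tight.norm s (hT.le hs) b hb.2⟩)
    (fun h => hc'z (hNP' _ hc'.2 (by rw [orderOf_conj]; exact hc2)
      (mem_centralizer_singleton_iff.mp (h hc').2)))
  have hbu : b * u ≠ u * b := fun h => hbE ⟨hb.1, mem_centralizer_singleton_iff.mpr h⟩
  have h1 : b * u * b⁻¹ ∈ T ⊓ centralizer ({u} : Set G) :=
    (mem_normalizer_iff.mp hbn u).mp ⟨huT', mem_centralizer_singleton_iff.mpr rfl⟩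
  have h2 : (b * u * b⁻¹) * u = u * (b * u * b⁻¹) := mem_centralizer_singleton_iff.mp h1.2
  have huu : u * u = 1 := mul_self_of_order hu2
  have huinv : u⁻¹ = u := by rw [inv_eq_iff_mul_eq_one]; exact huu
  set w := u * (b * u * b⁻¹) with hw
  have hwC : w ∈ centralizer (K : Set G) := by
    have h3 : u * b * u⁻¹ ∈ centralizer (K : Set G) := E.tight.norm u huM b hb.2
    have h4 : w = (u * b * u⁻¹) * b⁻¹ := by rw [hw, huinv]; group
    rw [h4]
    exact (centralizer (K : Set G)).mul_mem h3 ((centralizer (K : Set G)).inv_mem hb.2)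
  have hw1 : w ≠ 1 := by
    intro h
    apply hbu
    have h5 : b * u * b⁻¹ = u := by
      have : b * u * b⁻¹ = u⁻¹ := by rw [hw] at h; exact (inv_eq_of_mul_eq_one_right h).symm
      rw [this, huinv]
    calc b * u = (b * u * b⁻¹) * b := by group
      _ = u * b := by rw [h5]
  have hww : w * w = 1 := by
    rw [hw]
    calc u * (b * u * b⁻¹) * (u * (b * u * b⁻¹)) = u * ((b * u * b⁻¹) * u) * (b * u * b⁻¹) := by group
      _ = u * (u * (b * u * b⁻¹)) * (b * u * b⁻¹) := by rw [h2]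
      _ = (u * u) * (b * (u * u) * b⁻¹) := by group
      _ = 1 := by rw [huu]; group
  have hwu : w * u = u * w := by
    rw [hw]
    calc u * (b * u * b⁻¹) * u = u * ((b * u * b⁻¹) * u) := by group
      _ = u * (u * (b * u * b⁻¹)) := by rw [h2]
  have hwz : w = z := hNP' w hwC (order_of_mul_self hww hw1) hwu
  refine ⟨b, hb.2, ?_⟩
  calc b * u * b⁻¹ = (u * u) * (b * u * b⁻¹) := by rw [huu, one_mul]
    _ = u * w := by rw [hw]; group
    _ = u * z := by rw [hwz]

/-- (c) -/
theorem eq_of_mem (E : Ev K z) (hNP : ¬ HasPair K z) {c : G} (hc : c ∈ centralizer (K : Set G))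
    (hc2 : orderOf c = 2) (hcz : c ≠ z) {g : G} (hg : g * z * g⁻¹ ∈ K) : g * z * g⁻¹ = z := by
  by_contra hne
  obtain ⟨n, hn, hn'⟩ := E.move hNP hc hc2 hcz hne (mem_centralizer_iff.mp E.zC _ hg)
  have h1 : n * (g * z * g⁻¹) * n⁻¹ = g * z * g⁻¹ := by
    rw [← mem_centralizer_iff.mp hn _ hg]
    group
  rw [h1] at hn'
  exact E.z_ne_one (mul_eq_left.mp hn'.symm)

/-- (b) the product of two commuting points is a point -/
theorem mul_point (E : Ev K z) (hNP : ¬ HasPair K z) {c : G} (hc : c ∈ centralizer (K : Set G))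
    (hc2 : orderOf c = 2) (hcz : c ≠ z) {g h : G} (hne : h * z * h⁻¹ ≠ g * z * g⁻¹)
    (hcomm : (h * z * h⁻¹) * (g * z * g⁻¹) = (g * z * g⁻¹) * (h * z * h⁻¹)) :
    ∃ x : G, (h * z * h⁻¹) * (g * z * g⁻¹) = x * z * x⁻¹ := by
  have key : (g⁻¹ * h) * z * (g⁻¹ * h)⁻¹ = g⁻¹ * (h * z * h⁻¹) * g := by group
  obtain ⟨n, hn, hn'⟩ := E.move hNP hc hc2 hcz (g := g⁻¹ * h) (by
    rw [key]
    intro h1
    apply hne
    calc h * z * h⁻¹ = g * (g⁻¹ * (h * z * h⁻¹) * g) * g⁻¹ := by group
      _ = g * z * g⁻¹ := by rw [h1]) (by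
    rw [key]
    calc g⁻¹ * (h * z * h⁻¹) * g * z = g⁻¹ * ((h * z * h⁻¹) * (g * z * g⁻¹)) * g := by group
      _ = g⁻¹ * ((g * z * g⁻¹) * (h * z * h⁻¹)) * g := by rw [hcomm]
      _ = z * (g⁻¹ * (h * z * h⁻¹) * g) := by group)
  rw [key] at hn'
  refine ⟨g * n * g⁻¹ * h, ?_⟩
  calc (h * z * h⁻¹) * (g * z * g⁻¹) = g * (g⁻¹ * (h * z * h⁻¹) * g * z) * g⁻¹ := by group
    _ = g * (n * (g⁻¹ * (h * z * h⁻¹) * g) * n⁻¹) * g⁻¹ := by rw [hn']
    _ = _ := by group

/-- the action on `K` -/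
noncomputable def act (K : Subgroup G) (y : ↥(normalizer (K : Set G))) : MulAut ↥K := K.normalizerMonoidHom y

omit [Finite G] in
theorem act_coe {y : ↥(normalizer (K : Set G))} (x : ↥K) :
    ((act K y x : ↥K) : G) = (y : G) * x * (y : G)⁻¹ := rfl

omit [Finite G] in
theorem act_mul {x y : ↥(normalizer (K : Set G))} : act K (x * y) = act K x * act K y := map_mul _ _ _

omit [Finite G] in
theorem act_eq_one_iff {y : ↥(normalizer (K : Set G))} : act K y = 1 ↔ (y : G) ∈ centralizer (K : Set G) := by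
  constructor
  · intro h
    rw [mem_centralizer_iff]
    intro x hx
    have h1 := congrArg (fun f : MulAut ↥K => ((f ⟨x, hx⟩ : ↥K) : G)) h
    have h2 : (y : G) * x * (y : G)⁻¹ = x := h1
    calc x * (y : G) = ((y : G) * x * (y : G)⁻¹) * y := by rw [h2]
      _ = (y : G) * x := by group
  · intro h
    ext x
    rw [act_coe]
    have h1 := mem_centralizer_iff.mp h x x.2
    show (y : G) * (x : G) * (y : G)⁻¹ = x
    rw [← h1]
    group

/-- **(II)** -/
theorem hasPair [IsSimpleGroup G] (E : Ev K z) (hna : ∃ a b : G, a * b ≠ b * a) (h2 : SqDiff ↥K)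
    {c : G} (hc : c ∈ centralizer (K : Set G)) (hc2 : orderOf c = 2) (hcz : c ≠ z) : HasPair K z := by
  by_contra hNP
  obtain ⟨g, hg, hgz⟩ := exists_conj_comm hna E.z2
  set a := g * z * g⁻¹ with ha
  have haa : a * a = 1 := mul_self_of_order (by rw [ha, orderOf_conj]; exact E.z2)
  have haM : a ∈ normalizer (K : Set G) := E.mem_iff.mpr hgz
  have hainv : a⁻¹ = a := by rw [inv_eq_iff_mul_eq_one]; exact haa
  obtain ⟨x, hx, hxx⟩ := h2 (act K ⟨a, haM⟩) (by
      rw [← act_mul]
      have : (⟨a, haM⟩ * ⟨a, haM⟩ : ↥(normalizer (K : Set G))) = 1 := Subtype.ext haa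
      rw [this]
      exact map_one _) (by
      rw [Ne, act_eq_one_iff]
      intro h
      exact hg (E.conj_eq h))
  -- `y = a a^x`
  have hy : (((act K ⟨a, haM⟩ x)⁻¹ * x : ↥K) : G) = a * ((x : G)⁻¹ * a * x) := by
    rw [coe_mul, coe_inv, act_coe]
    show (a * (x : G) * a⁻¹)⁻¹ * x = _
    have e1 : ∀ a x : G, (a * x * a⁻¹)⁻¹ * x = a * (x⁻¹ * a⁻¹ * x) := by intro a x; group
    rw [e1, hainv]
  set y : G := a * ((x : G)⁻¹ * a * x) with hydef
  have hyK : y ∈ K := by rw [← hy]; exact SetLike.coe_mem _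
  have hyy : y * y = 1 := by
    rw [← hy]
    exact congrArg Subtype.val hxx
  have hbb : ((x : G)⁻¹ * a * x) * ((x : G)⁻¹ * a * x) = 1 := by
    calc ((x : G)⁻¹ * a * x) * ((x : G)⁻¹ * a * x) = (x : G)⁻¹ * (a * a) * x := by group
      _ = 1 := by rw [haa]; group
  have hcommab : a * ((x : G)⁻¹ * a * x) = ((x : G)⁻¹ * a * x) * a := by
    set b := (x : G)⁻¹ * a * x
    have h3 : a * b * (a * b) = 1 := hyy
    calc a * b = (a * b)⁻¹ := by rw [eq_inv_iff_mul_eq_one]; exact h3
      _ = b⁻¹ * a⁻¹ := mul_inv_rev _ _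
      _ = b * a := by
        have hb' : b⁻¹ = b := by rw [inv_eq_iff_mul_eq_one]; exact hbb
        rw [hainv, hb']
  have key : (x : G)⁻¹ * a * x = ((x : G)⁻¹ * g) * z * ((x : G)⁻¹ * g)⁻¹ := by rw [ha]; group
  have hne : a ≠ (x : G)⁻¹ * a * x := by
    intro h
    apply hx
    have h3 : (act K ⟨a, haM⟩ x)⁻¹ * x = 1 := by
      apply Subtype.ext
      rw [hy, hydef, ← h, haa]
      rfl
    rw [h3]
    exact one_mem _
  obtain ⟨v, hv⟩ := E.mul_point hNP hc hc2 hcz (g := (x : G)⁻¹ * g) (h := g) (by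
    rw [← key]; exact hne) (by rw [← key]; exact hcommab)
  rw [← key] at hv
  have hvz : v * z * v⁻¹ = z := E.eq_of_mem hNP hc hc2 hcz (by rw [← hv]; exact hyK)
  apply hx
  have h4 : (act K ⟨a, haM⟩ x)⁻¹ * x = ⟨z, E.zK⟩ := by
    apply Subtype.ext
    rw [hy]
    show y = z
    rw [← hvz, ← hv]
  rw [h4, mem_center_iff]
  intro k
  exact Subtype.ext (mem_centralizer_iff.mp E.zC k k.2)

/-- The pair seen from the other point: `a = gzg⁻¹ ≠ z` commutes with `c`; then `v = g⁻¹zg`, `d = g⁻¹cg` normalize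
`K`, act faithfully and `C_K(d), C_K(dv) ≤ C_K(v)`. -/
structure Pair (K : Subgroup G) (z g c v d : G) : Prop where
  v_def : v = g⁻¹ * z * g
  d_def : d = g⁻¹ * c * g
  ne : v ≠ z
  vM : v ∈ normalizer (K : Set G)
  dM : d ∈ normalizer (K : Set G)
  cC : c ∈ centralizer (K : Set G)
  c2 : orderOf c = 2
  cz : c ≠ z
  comm : d * v = v * d
  vC : v ∉ centralizer (K : Set G)
  dC : d ∉ centralizer (K : Set G)
  dvC : d * v ∉ centralizer (K : Set G)
  centd : ∀ k ∈ K, d * k = k * d → v * k = k * v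
  centdv : ∀ k ∈ K, d * v * k = k * (d * v) → v * k = k * v

theorem pair_of (E : Ev K z) {g c : G} (hgz : g * z * g⁻¹ ≠ z) (hc : c ∈ centralizer (K : Set G))
    (hc2 : orderOf c = 2) (hcz : c ≠ z) (hcomm : c * (g * z * g⁻¹) = (g * z * g⁻¹) * c) :
    Pair K z g c (g⁻¹ * z * g) (g⁻¹ * c * g) := by
  have hz2 := mul_self_of_order E.z2
  have hcc := mul_self_of_order hc2
  have hcZ : c * z = z * c := E.z_comm hc
  have hgM : g ∉ normalizer (K : Set G) := by
    intro h
    apply hgz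
    rw [E.mem_iff.mp h]
    group
  -- `a` commutes with `z`
  have ha : (g * z * g⁻¹) * z = z * (g * z * g⁻¹) :=
    E.mem_iff.mp (E.mem_of_comm hc hc2 hcomm.symm)
  have hcz' : c * z ∈ centralizer (K : Set G) := mul_mem hc E.zC
  have hcz2 : orderOf (c * z) = 2 := by
    refine order_of_mul_self ?_ ?_
    · calc c * z * (c * z) = c * (z * c) * z := by group
        _ = (c * c) * (z * z) := by rw [← hcZ]; group
        _ = 1 := by rw [hcc, hz2, one_mul]
    · intro h
      apply hcz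
      calc c = c * (z * z) := by rw [hz2, mul_one]
        _ = (c * z) * z := by group
        _ = z := by rw [h, one_mul]
  have hnot : ∀ x ∈ centralizer (K : Set G), orderOf x = 2 → g⁻¹ * x * g ∉ centralizer (K : Set G) := by
    intro x hx hx2 hx'
    exact hgM (E.mem_iff.mpr (E.comm_of_both hx hx2 hx'))
  have hback : ∀ x ∈ centralizer (K : Set G), orderOf x = 2 → ∀ k : G,
      (g⁻¹ * x * g) * k = k * (g⁻¹ * x * g) → (g⁻¹ * z * g) * k = k * (g⁻¹ * z * g) := by
    intro x hx hx2 k hk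
    have h1 : (g * k * g⁻¹) * x = x * (g * k * g⁻¹) := by
      calc (g * k * g⁻¹) * x = g * (k * (g⁻¹ * x * g)) * g⁻¹ := by group
        _ = g * ((g⁻¹ * x * g) * k) * g⁻¹ := by rw [hk]
        _ = x * (g * k * g⁻¹) := by group
    have h2 := E.mem_iff.mp (E.mem_of_comm hx hx2 h1)
    calc (g⁻¹ * z * g) * k = g⁻¹ * (z * (g * k * g⁻¹)) * g := by group
      _ = g⁻¹ * ((g * k * g⁻¹) * z) * g := by rw [h2]
      _ = k * (g⁻¹ * z * g) := by group
  have hdv : g⁻¹ * c * g * (g⁻¹ * z * g) = g⁻¹ * (c * z) * g := by group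
  refine ⟨rfl, rfl, ?_, ?_, ?_, hc, hc2, hcz, ?_, hnot z E.zC E.z2,
    hnot c hc hc2, ?_, ?_, ?_⟩
  · intro h
    apply hgz
    calc g * z * g⁻¹ = g * (g⁻¹ * z * g) * g⁻¹ := by rw [h]
      _ = z := by group
  · rw [E.mem_iff]
    calc g⁻¹ * z * g * z = g⁻¹ * (z * (g * z * g⁻¹)) * g := by group
      _ = g⁻¹ * ((g * z * g⁻¹) * z) * g := by rw [ha]
      _ = z * (g⁻¹ * z * g) := by group
  · rw [E.mem_iff]
    calc g⁻¹ * c * g * z = g⁻¹ * (c * (g * z * g⁻¹)) * g := by group
      _ = g⁻¹ * ((g * z * g⁻¹) * c) * g := by rw [hcomm]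
      _ = z * (g⁻¹ * c * g) := by group
  · calc g⁻¹ * c * g * (g⁻¹ * z * g) = g⁻¹ * (c * z) * g := by group
      _ = g⁻¹ * (z * c) * g := by rw [hcZ]
      _ = _ := by group
  · rw [hdv]
    exact hnot _ hcz' hcz2
  · intro k _ hk
    exact hback c hc hc2 k hk
  · intro k _ hk
    rw [hdv] at hk
    exact hback _ hcz' hcz2 k hk

theorem exists_pair (E : Ev K z) (h : HasPair K z) : ∃ g c v d : G, Pair K z g c v d := by
  obtain ⟨g, c, hgz, hc, hc2, hcz, hcomm⟩ := h
  exact ⟨g, c, _, _, E.pair_of hgz hc hc2 hcz hcomm⟩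

/-- **(I)** -/
theorem not_hasPair (E : Ev K z) (h1 : PairFree ↥K) : ¬ HasPair K z := by
  intro h
  obtain ⟨g, c, v, d, P⟩ := E.exists_pair h
  have hcc := mul_self_of_order P.c2
  have hzz := mul_self_of_order E.z2
  have hvv : v * v = 1 := by
    rw [P.v_def]
    calc g⁻¹ * z * g * (g⁻¹ * z * g) = g⁻¹ * (z * z) * g := by group
      _ = 1 := by rw [hzz]; group
  have hdd : d * d = 1 := by
    rw [P.d_def]
    calc g⁻¹ * c * g * (g⁻¹ * c * g) = g⁻¹ * (c * c) * g := by group
      _ = 1 := by rw [hcc]; group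
  have hone : ∀ {x : G} (hx : x ∈ normalizer (K : Set G)), x * x = 1 → act K ⟨x, hx⟩ * act K ⟨x, hx⟩ = 1 := by
    intro x hx hxx
    rw [← act_mul]
    have : (⟨x, hx⟩ * ⟨x, hx⟩ : ↥(normalizer (K : Set G))) = 1 := Subtype.ext hxx
    rw [this]
    exact map_one _
  have hfix : ∀ (x : G) (hx : x ∈ normalizer (K : Set G)) (k : ↥K), act K ⟨x, hx⟩ k = k ↔ x * k = k * x := by
    intro x hx k
    constructor
    · intro h
      have h2 : x * (k : G) * x⁻¹ = k := congrArg Subtype.val h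
      calc x * (k : G) = (x * (k : G) * x⁻¹) * x := by group
        _ = k * x := by rw [h2]
    · intro h
      apply Subtype.ext
      show x * (k : G) * x⁻¹ = k
      rw [h]
      group
  refine h1 (act K ⟨d, P.dM⟩) (act K ⟨v, P.vM⟩) (hone _ hdd) (hone _ hvv) ?_ ?_ ?_ ?_ ?_ ?_
  · rw [← act_mul, ← act_mul]
    congr 1
    exact Subtype.ext P.comm
  · rw [Ne, act_eq_one_iff]
    exact P.dC
  · rw [Ne, act_eq_one_iff]
    exact P.vC
  · intro h2
    apply P.dvC
    have h3 : act K (⟨d, P.dM⟩ * ⟨v, P.vM⟩) = 1 := by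
      rw [act_mul, h2]
      exact hone _ hvv
    exact act_eq_one_iff.mp h3
  · intro k hk
    rw [hfix] at hk ⊢
    exact P.centd k k.2 hk
  · intro k hk
    have h3 : act K (⟨d, P.dM⟩ * ⟨v, P.vM⟩) k = k := by
      rw [act_mul]
      exact hk
    have h4 := (hfix (d * v) (mul_mem P.dM P.vM) k).mp h3
    rw [hfix]
    exact P.centdv k k.2 h4

end Ev

/-- (P2) and 'no pair' imply `m_2(C(K)) ≤ 1`. -/
theorem main_of_not [IsSimpleGroup G] (E : Ev K z) (h1 : ¬ Ev.HasPair K z) (h2 : SqDiff ↥K) :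
    PRankLE 2 1 ↥(centralizer (K : Set G)) := by
  by_contra hrk
  obtain ⟨a, b, ha, hb, ha2, hb2, hab, hne⟩ := EvenPair.exists_two_of_not_pRankLE hrk
  have hna : ∃ a b : G, a * b ≠ b * a := by
    by_contra hcon
    push Not at hcon
    have h3 : ⁅(⊤ : Subgroup ↥K), (⊤ : Subgroup ↥K)⁆ = ⊤ := E.std.1.1.commutator_eq_top
    have h4 : ⁅(⊤ : Subgroup ↥K), (⊤ : Subgroup ↥K)⁆ = ⊥ := by
      rw [commutator_eq_bot_iff_le_centralizer]
      intro x _
      rw [mem_centralizer_iff]
      intro y _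
      exact Subtype.ext (hcon y x)
    have h5 : (⟨z, E.zK⟩ : ↥K) ∈ (⊤ : Subgroup ↥K) := mem_top _
    rw [← h3, h4, mem_bot] at h5
    exact E.z_ne_one (congrArg Subtype.val h5)
  by_cases haz : a = z
  · exact h1 (E.hasPair hna h2 hb hb2 (fun h => hne (haz.trans h.symm)))
  · exact h1 (E.hasPair hna h2 ha ha2 haz)

/-- **(P1) and (P2) for `K` imply `m_2(C(K)) ≤ 1`.** -/
theorem main [IsSimpleGroup G] (E : Ev K z) (h1 : PairFree ↥K) (h2 : SqDiff ↥K) :
    PRankLE 2 1 ↥(centralizer (K : Set G)) :=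
  main_of_not E (E.not_hasPair h1) h2

/-- The row form: `Std`, `Z(K)` cyclic and nontrivial. -/
theorem ev_of_std {G : Type*} [Group G] {K : Subgroup G} (S : Iface.Std0 G K) [Finite G]
    (hcyc : IsCyclic ↥(center ↥K)) (hne : center ↥K ≠ ⊥) : ∃ z : G, Ev K z := by
  obtain ⟨x, hx, hx2⟩ := exists_invol_of_two (H := center ↥K) S.z2 hne
  have hmem : ∀ y ∈ K, y ∈ centralizer (K : Set G) → ∀ hy : y ∈ K, (⟨y, hy⟩ : ↥K) ∈ center ↥K := by
    intro y hyK hy hy'
    rw [mem_center_iff]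
    intro k
    exact Subtype.ext (mem_centralizer_iff.mp hy k k.2)
  refine ⟨x, S.std, x.2, ?_, ?_, ?_⟩
  · rw [mem_centralizer_iff]
    intro k hk
    exact congrArg Subtype.val (mem_center_iff.mp hx ⟨k, hk⟩)
  · rw [← hx2]
    exact Subgroup.orderOf_coe x
  · intro y hyK hy hy2
    have h1 := hmem y hyK hy hyK
    have h2 : orderOf (⟨⟨y, hyK⟩, h1⟩ : ↥(center ↥K)) = 2 := by
      rw [← Subgroup.orderOf_coe, ← Subgroup.orderOf_coe]
      exact hy2
    have h3 : orderOf (⟨x, hx⟩ : ↥(center ↥K)) = 2 := by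
      rw [← Subgroup.orderOf_coe]
      exact hx2
    have h4 : (⟨⟨y, hyK⟩, h1⟩ : ↥(center ↥K)) = ⟨x, hx⟩ := by
      exact eq_of_cyclic h2 h3
    exact congrArg (fun a : ↥(center ↥K) => ((a : ↥K) : G)) h4

end Main

/-- **The row**: `Z(K)` cyclic and nontrivial, (P1) and (P2). -/
theorem row {G : Type*} [Group G] {K : Subgroup G} (C : Iface.Ctx G) (S : Iface.Std0 G K)
    (hcyc : IsCyclic ↥(center ↥K)) (hne : center ↥K ≠ ⊥) (h1 : PairFree ↥K) (h2 : SqDiff ↥K) :
    PRankLE 2 1 ↥(centralizer (K : Set G)) := by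
  haveI := C.fin
  haveI := C.simple
  obtain ⟨z, E⟩ := ev_of_std S hcyc hne
  exact main E h1 h2

section Transport

variable {X Y : Type*} [Group X] [Group Y]

theorem PairFree.map (e : X ≃* Y) (h : PairFree X) : PairFree Y := by
  intro α β hα hβ hαβ hα1 hβ1 hne hc hc'
  let φ : MulAut Y ≃* MulAut X := MulAut.congr e.symm
  have hφ : ∀ (γ : MulAut Y) (x : X), φ γ x = e.symm (γ (e x)) := fun γ x => rfl
  have hfix : ∀ (γ : MulAut Y) (x : X), φ γ x = x ↔ γ (e x) = e x := by
    intro γ x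
    rw [hφ]
    constructor
    · intro h
      exact (MulEquiv.symm_apply_eq e).mp h
    · intro h
      rw [h, MulEquiv.symm_apply_apply]
  refine h (φ α) (φ β) (by rw [← map_mul, hα, map_one]) (by rw [← map_mul, hβ, map_one])
    (by rw [← map_mul, hαβ, map_mul]) (fun h1 => hα1 (φ.injective (by rw [h1, map_one])))
    (fun h1 => hβ1 (φ.injective (by rw [h1, map_one]))) (fun h1 => hne (φ.injective h1)) ?_ ?_
  · intro x hx
    rw [hfix] at hx ⊢
    exact hc _ hx
  · intro x hx
    have h1 : φ (α * β) x = x := by rw [map_mul]; exact hx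
    rw [hfix] at h1 ⊢
    exact hc' _ h1

theorem SqDiff.map (e : X ≃* Y) (h : SqDiff X) : SqDiff Y := by
  intro α hα hα1
  let φ : MulAut Y ≃* MulAut X := MulAut.congr e.symm
  obtain ⟨x, hx, hxx⟩ := h (φ α) (by rw [← map_mul, hα, map_one])
    (fun h1 => hα1 (φ.injective (by rw [h1, map_one])))
  have he : e ((φ α x)⁻¹ * x) = (α (e x))⁻¹ * e x := by
    rw [map_mul, map_inv]
    congr 2
    exact e.apply_symm_apply _
  refine ⟨e x, ?_, ?_⟩
  · rw [← he]
    intro hc
    apply hx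
    rw [mem_center_iff] at hc ⊢
    intro g
    exact e.injective (by rw [map_mul e g, map_mul e _ g]; exact hc (e g))
  · rw [← he, ← map_mul, hxx, map_one]

end Transport

end Cfsg.Agent.OddHalf.D4.EvenCyc
end

-- part: OddHalf/D4/Spor/TwoCo1
section
prune_inst 0x2010400000000000000000000000006010000002006300016000040000400500800007002080161000002a102000000000000040022800000a000000400400000000400002000000210000008000000000000000000000000000000000000000000000000
set_option linter.all false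
open scoped Cfsg.Agent.FastGrp

/-!
# D4, `K = 2.Co1`: the facts (P1) and (P2)

* `eq_of_le`: `k ∈ Co0 ∖ ⟨-1⟩` with `k² = ±1`, every element commuting with `k` commutes with `l`: then `l ∈ ⟨k, -1⟩`.
* `pairFree_co0`, `sqDiff_co0`; `pairFree`, `sqDiff`: the same for every finite perfect `K` with a homomorphism onto
  `Co1` whose kernel is a non-trivial central 2-group.
-/

set_option autoImplicit false
set_option Elab.async false
open Cfsg
open scoped Pointwise

namespace Cfsg.Agent.OddHalf.D4.Spor.TwoCo1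

open Cfsg.Agent.SporadicA.GolayBase Cfsg.Agent.SporadicA.GolayPerm
open Cfsg.Agent.SporadicStructure.M24El
open Cfsg.Agent.SporadicA.Co0Mono Cfsg.Agent.SporadicA.Co1Simple
open Cfsg.Agent.SporadicStructure.Co0Base (e8 e8_coe co0_ext_e8)
open Cfsg.Agent.Co2Type.Mono
open Cfsg.Agent.CoOneType.InvMain (b0 b0m isCode_b0m b0m_xor cd_all conj_sign_of_sq_one
  conj_b0_of_sq_neg)
open Cfsg.Agent.CoOneType.SignFacts (sup mem_sup notMem_sup wt sup_mem wt_cases wt_add_allOne
  sign_allOne_comm mem_N_of_conj_dodecad)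
open Cfsg.Agent.CoOneType.ClosingFacts (mem_center_iff)
open Cfsg.Agent.CoOneType.CentOctad (C0 mem_C0)
open Cfsg.Agent.KFacts.Co1.OctGen (sign_inj)
open Cfsg.Agent.KFacts.Co1.RHat (sign_smul_e8_of_mem sign_smul_e8_of_notMem centralizer_Rh Rh Rh_le_C0)
open Cfsg.Agent.KFacts.Co1
open Cfsg.Agent.J4.M24InvolData (P2)
open Cfsg.Agent.J4.M24Invol (ok_P2)
open Cfsg.Agent.OddHalf.D9.Co1.Facts
open Cfsg.Agent.OddHalf.D4.EvenCyc (PairFree SqDiff)

/-- Every element commuting with `k` commutes with `l`. -/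
def Le (k l : Co0) : Prop := ∀ x : Co0, x * k = k * x → x * l = l * x

theorem Le.mul {k l m : Co0} (h1 : Le k l) (h2 : Le k m) : Le k (l * m) := by
  intro x hx
  rw [← mul_assoc, h1 x hx, mul_assoc, h2 x hx, mul_assoc]

theorem Le.refl (k : Co0) : Le k k := fun _ h => h

theorem Le.zeta (k : Co0) : Le k ζ := fun x _ => ζ_cen x

theorem Le.conj {k l : Co0} (h : Le k l) (g : Co0) : Le (g * k * g⁻¹) (g * l * g⁻¹) := by
  intro x hx
  have h1 : (g⁻¹ * x * g) * k = k * (g⁻¹ * x * g) := by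
    have e1 : (g⁻¹ * x * g) * k = g⁻¹ * (x * (g * k * g⁻¹)) * g := by group
    have e2 : k * (g⁻¹ * x * g) = g⁻¹ * ((g * k * g⁻¹) * x) * g := by group
    rw [e1, e2, hx]
  have h2 := h _ h1
  have e1 : x * (g * l * g⁻¹) = g * ((g⁻¹ * x * g) * l) * g⁻¹ := by group
  have e2 : (g * l * g⁻¹) * x = g * (l * (g⁻¹ * x * g)) * g⁻¹ := by group
  rw [e1, e2, h2]

/-! ### The lines -/

theorem neg_e8 (i : GolayPt) : ζ • e8 i = -e8 i :=
  sign_smul_e8_of_mem (by rw [mem_sup]; rfl)

/-- If `l` fixes `8 e_i` and `x` commutes with `l` then `l` fixes `x (8 e_i)`. -/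
theorem fix_move {k l x : Co0} (hl : Le k l) (hx : x * k = k * x) {i j : GolayPt}
    (hij : x • e8 i = e8 j ∨ x • e8 i = -e8 j) (h : l • e8 i = e8 i) : l • e8 j = e8 j := by
  have h1 : l • (x • e8 i) = x • e8 i := by rw [← mul_smul, ← hl x hx, mul_smul, h]
  rcases hij with h2 | h2
  · rwa [h2] at h1
  · rw [h2, SporadicA.Co0Mono.smul_neg, neg_inj] at h1
    exact h1

theorem ne_neg (i : GolayPt) : e8 i ≠ -e8 i := e8_ne_neg i i

/-- A sign change commuting with `l` has the same value on `i` and on the image of `i`. -/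
theorem mem_iff {c : golayCode} {l : Co0} (h : signCo0 c * l = l * signCo0 c) {i p : GolayPt}
    (hp : l • e8 i = e8 p ∨ l • e8 i = -e8 p) : i ∈ sup c ↔ p ∈ sup c := by
  have key : signCo0 c • (l • e8 i) = l • (signCo0 c • e8 i) := by
    rw [← mul_smul, h, mul_smul]
  have hpp : ∀ {v : leechLattice}, (v = e8 p ∨ v = -e8 p) → (p ∈ sup c → signCo0 c • v = -v) ∧
      (p ∉ sup c → signCo0 c • v = v) := by
    rintro v (rfl | rfl)
    · exact ⟨fun h => sign_smul_e8_of_mem h, fun h => sign_smul_e8_of_notMem h⟩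
    · refine ⟨fun h => ?_, fun h => ?_⟩
      · rw [SporadicA.Co0Mono.smul_neg, sign_smul_e8_of_mem h]
      · rw [SporadicA.Co0Mono.smul_neg, sign_smul_e8_of_notMem h]
  have hne : l • e8 i ≠ -(l • e8 i) := by
    rcases hp with h1 | h1
    · rw [h1]; exact ne_neg p
    · rw [h1, neg_neg]; exact (ne_neg p).symm
  constructor
  · intro hi
    by_contra hpc
    rw [sign_smul_e8_of_mem hi, SporadicA.Co0Mono.smul_neg, (hpp hp).2 hpc] at key
    exact hne key
  · intro hpc
    by_contra hi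
    rw [sign_smul_e8_of_notMem hi, (hpp hp).1 hpc] at key
    exact hne key.symm

theorem exists_line {l : Co0} (hl : l ∈ N) (i : GolayPt) :
    ∃ p, l • e8 i = e8 p ∨ l • e8 i = -e8 p := by
  obtain ⟨c, σ, rfl⟩ := exists_sign_perm hl
  refine ⟨(σ : Equiv.Perm GolayPt) i, ?_⟩
  rw [mul_smul, perm_smul_e8]
  exact sgn_smul_e8 c _

/-- Transport along a chain of points. -/
theorem reach {k : Co0} {T1 T2 y1 y2 : ℕ} (hT1 : ok T1 = true) (hT2 : ok T2 = true)
    (c1 : mo y1 T1 * k = k * mo y1 T1) (c2 : mo y2 T2 * k = k * mo y2 T2) (L : ℕ → ℕ) (n : ℕ)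
    (hL : ∀ i < n, L i < 24)
    (h : ∀ i < n, i = 0 ∨ ∃ j < i, papp T1 (L j) = L i ∨ papp T2 (L j) = L i) (i : ℕ) (hi : i < n) :
    ∃ x : Co0, x * k = k * x ∧ (x • e8 (pt (L 0)) = e8 (pt (L i)) ∨
      x • e8 (pt (L 0)) = -e8 (pt (L i))) := by
  have step : ∀ (T y : ℕ), ok T = true → mo y T * k = k * mo y T → ∀ a b : ℕ, a < 24 →
      papp T a = b → (∃ x : Co0, x * k = k * x ∧ (x • e8 (pt (L 0)) = e8 (pt a) ∨
        x • e8 (pt (L 0)) = -e8 (pt a))) → ∃ x : Co0, x * k = k * x ∧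
        (x • e8 (pt (L 0)) = e8 (pt b) ∨ x • e8 (pt (L 0)) = -e8 (pt b)) := by
    rintro T y hT hc a b ha hab ⟨x, hx, hx'⟩
    refine ⟨mo y T * x, ?_, ?_⟩
    · rw [mul_assoc, hx, ← mul_assoc, hc, mul_assoc]
    · have e1 : mo y T • e8 (pt a) = e8 (pt b) ∨ mo y T • e8 (pt a) = -e8 (pt b) := by
        have e2 : (el T : Equiv.Perm GolayPt) (pt a) = pt b := by
          have := el_smul_pt hT (pt a)
          rw [idx_pt ha, hab] at this
          exact this
        unfold mo
        rw [mul_smul, perm_smul_e8, e2]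
        exact sgn_smul_e8 _ _
      rw [mul_smul]
      rcases hx' with h1 | h1 <;> rcases e1 with h2 | h2
      · left; rw [h1, h2]
      · right; rw [h1, h2]
      · right; rw [h1, SporadicA.Co0Mono.smul_neg, h2]
      · left; rw [h1, SporadicA.Co0Mono.smul_neg, h2, neg_neg]
  induction i using Nat.strong_induction_on with
  | _ i ih =>
    rcases h i hi with h0 | ⟨j, hj, h1 | h1⟩
    · subst h0
      exact ⟨1, by rw [one_mul, mul_one], Or.inl (one_smul _ _)⟩
    · exact step T1 y1 hT1 c1 _ _ (hL j (by omega)) h1 (ih j hj (by omega))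
    · exact step T2 y2 hT2 c2 _ _ (hL j (by omega)) h1 (ih j hj (by omega))

theorem eq_of_mul {l : Co0} (h : ζ * l = 1) : l = ζ := by
  have : l = ζ * (ζ * l) := by rw [← mul_assoc, ζ_sq, one_mul]
  rw [this, h, mul_one]

/-! ### The type `b0` -/

def Ta : ℕ := 925779681360896407837875482911621460
def ya : ℕ := 10846245
def Tb : ℕ := 755844597211611784603002331293956589
def yb : ℕ := 15335473

def La : ℕ → ℕ := fun i =>
  [0, 20, 13, 7, 4, 1, 19, 17, 15, 10, 12, 8, 11, 21, 2, 5, 6, 9, 16, 14, 18, 22, 3, 23].getD i 0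

theorem okA : (ok Ta && isCode ya && ok Tb && isCode yb &&
    Nat.beq (ya ^^^ pimg Ta b0m) (b0m ^^^ pimg P2 ya) && Nat.beq (pcomp Ta P2) (pcomp P2 Ta) &&
    Nat.beq (yb ^^^ pimg Tb b0m) (b0m ^^^ pimg P2 yb) &&
    Nat.beq (pcomp Tb P2) (pcomp P2 Tb)) = true := by decide +kernel

theorem chainA : ∀ i < 24, i = 0 ∨ ∃ j < i, papp Ta (La j) = La i ∨ papp Tb (La j) = La i := by
  decide +kernel

theorem ltA : ∀ i < 24, La i < 24 := by decide +kernel

theorem surjA : ∀ i < 24, ∃ j < 24, La j = i := by decide +kernel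

theorem mo_comm {y T : ℕ} (hy : isCode y = true) (hT : ok T = true)
    (h1 : y ^^^ pimg T b0m = b0m ^^^ pimg P2 y) (h2 : pcomp T P2 = pcomp P2 T) :
    mo y T * b0 = b0 * mo y T := by
  have hb0 : b0 = mo b0m P2 := rfl
  rw [hb0, mo_mul hy isCode_b0m hT ok_P2, mo_mul isCode_b0m hy ok_P2 hT, h1, h2]

theorem reachA (i : GolayPt) : ∃ x : Co0, x * b0 = b0 * x ∧ (x • e8 (pt 0) = e8 i ∨
    x • e8 (pt 0) = -e8 i) := by
  have h := okA
  simp only [Bool.and_eq_true, Nat.beq_eq] at h
  obtain ⟨⟨⟨⟨⟨⟨⟨h1, h2⟩, h3⟩, h4⟩, h5⟩, h6⟩, h7⟩, h8⟩ := h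
  obtain ⟨j, hj, hji⟩ := surjA (idx i) (idx_lt i)
  have := reach h1 h3 (mo_comm h2 h1 h5 h6) (mo_comm h4 h3 h7 h8) La 24 ltA chainA j hj
  rwa [hji, pt_idx] at this

theorem eq_one_of_fix {l : Co0} (hl : Le b0 l) (h : l • e8 (pt 0) = e8 (pt 0)) : l = 1 := by
  apply co0_ext_e8
  intro i
  obtain ⟨x, hx, hx'⟩ := reachA i
  rw [one_smul]
  exact fix_move hl hx hx' h

theorem eq_of_fix {l : Co0} (hl : Le b0 l) (h : l • e8 (pt 0) = e8 (pt 0) ∨
    l • e8 (pt 0) = -e8 (pt 0)) : l = 1 ∨ l = ζ := by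
  rcases h with h | h
  · exact Or.inl (eq_one_of_fix hl h)
  · right
    apply eq_of_mul
    apply eq_one_of_fix ((Le.zeta _).mul hl)
    rw [mul_smul, h, SporadicA.Co0Mono.smul_neg, neg_e8, neg_neg]

/-- The words fixed by `P2` separating the point `0` from all points except `9`. -/
theorem sepA : ∀ p < 24, p = 0 ∨ p = 9 ∨ ∃ c ∈ [786999, 10558, 3195897],
    Nat.testBit c p ≠ Nat.testBit c 0 := by decide +kernel

theorem okS : ∀ c ∈ [786999, 10558, 3195897, 13553934], (isCode c && Nat.beq (pimg P2 c) c) = true := by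
  decide +kernel

theorem b0_sq : b0 * b0 = ζ := by
  have hb0 : b0 = mo b0m P2 := rfl
  have h : pcomp P2 P2 = idP := by decide +kernel
  rw [hb0, mo_mul isCode_b0m isCode_b0m ok_P2 ok_P2, b0m_xor, ζ_eq, h]

theorem sign_comm_b0 {c : ℕ} (h : (isCode c && Nat.beq (pimg P2 c) c) = true) :
    signCo0 (cd c) * b0 = b0 * signCo0 (cd c) := by
  rw [Bool.and_eq_true, Nat.beq_eq] at h
  have hb0 : b0 = signCo0 (cd b0m) * permCo0 (el P2) := rfl
  rw [hb0, mul_assoc, perm_mul_sign, wordPerm_cd ok_P2 h.1, h.2, ← mul_assoc, ← mul_assoc,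
    ← signCo0_add, ← signCo0_add, add_comm]

theorem eq_of_le_b0 {l : Co0} (hl : Le b0 l) : l = 1 ∨ l = ζ ∨ l = b0 ∨ l = ζ * b0 := by
  have hN : l ∈ N := by
    have h1 := okS 13553934 (by decide)
    have h2 := hl _ (sign_comm_b0 h1)
    have hw : wt (cd 13553934) = 12 := by
      rw [wt_cd (by rw [Bool.and_eq_true] at h1; exact h1.1)]
      decide +kernel
    exact mem_N_of_conj_dodecad _ _ hw hw l h2.symm
  obtain ⟨p, hp⟩ := exists_line hN (pt 0)
  have hcase : idx p = 0 ∨ idx p = 9 := by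
    rcases sepA (idx p) (idx_lt p) with h | h | ⟨c, hc, hne⟩
    · exact Or.inl h
    · exact Or.inr h
    · exfalso
      have h1 := okS c (by
        simp only [List.mem_cons, List.not_mem_nil, or_false] at hc ⊢
        (clear * - hc; tauto))
      have h2 := mem_iff (hl _ (sign_comm_b0 h1)) hp
      have hcode : isCode c = true := by rw [Bool.and_eq_true] at h1; exact h1.1
      rw [sup_cd hcode, mem_fin, mem_fin, idx_pt (by norm_num)] at h2
      apply hne
      cases h3 : Nat.testBit c (idx p) <;> cases h4 : Nat.testBit c 0 <;> simp_all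
  rcases hcase with h | h
  · have hp0 : p = pt 0 := by rw [← pt_idx p, h]
    rw [hp0] at hp
    rcases eq_of_fix hl hp with h1 | h1
    · exact Or.inl h1
    · exact Or.inr (Or.inl h1)
  · have hp0 : p = pt 9 := by rw [← pt_idx p, h]
    rw [hp0] at hp
    have hb : b0 • e8 (pt 9) = e8 (pt 0) ∨ b0 • e8 (pt 9) = -e8 (pt 0) := by
      have e2 : (el P2 : Equiv.Perm GolayPt) (pt 9) = pt 0 := by
        have := el_smul_pt ok_P2 (pt 9)
        rw [idx_pt (by norm_num), show papp P2 9 = 0 by decide +kernel] at this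
        exact this
      show (signCo0 (cd b0m) * permCo0 (el P2)) • e8 (pt 9) = _ ∨
        (signCo0 (cd b0m) * permCo0 (el P2)) • e8 (pt 9) = _
      rw [mul_smul, perm_smul_e8, e2]
      exact sgn_smul_e8 _ _
    have h1 : (b0 * l) • e8 (pt 0) = e8 (pt 0) ∨ (b0 * l) • e8 (pt 0) = -e8 (pt 0) := by
      rw [mul_smul]
      rcases hp with h1 | h1 <;> rcases hb with h2 | h2
      · left; rw [h1, h2]
      · right; rw [h1, h2]
      · right; rw [h1, SporadicA.Co0Mono.smul_neg, h2]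
      · left; rw [h1, SporadicA.Co0Mono.smul_neg, h2, neg_neg]
    have h2 : ζ * b0 * (b0 * l) = l := by
      rw [mul_assoc, ← mul_assoc b0, b0_sq, ← mul_assoc, ζ_sq, one_mul]
    rcases eq_of_fix ((Le.refl b0).mul hl) h1 with h3 | h3
    · right; right; right
      rw [← h2, h3, mul_one]
    · right; right; left
      rw [← h2, h3, mul_assoc, ζ_cen b0, ← mul_assoc, ζ_sq, one_mul]

/-! ### The dodecads -/

def Tc : ℕ := 716907860877162889305629767858113620
def Td : ℕ := 65274482755396194121657056141324853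

def Lc : ℕ → ℕ := fun i => [1, 2, 17, 19, 12, 3, 8, 18, 15, 23, 14, 22].getD i 0
def Ld : ℕ → ℕ := fun i => [0, 20, 21, 4, 9, 7, 5, 16, 10, 13, 6, 11].getD i 0

def dm : ℕ := 13553934

theorem okC : (ok Tc && ok Td && isCode dm && Nat.beq (pimg Tc dm) dm &&
    Nat.beq (pimg Td dm) dm && Nat.beq (popcount dm) 12) = true := by decide +kernel

theorem chainC : ∀ i < 12, i = 0 ∨ ∃ j < i, papp Tc (Lc j) = Lc i ∨ papp Td (Lc j) = Lc i := by
  decide +kernel

theorem chainD : ∀ i < 12, i = 0 ∨ ∃ j < i, papp Tc (Ld j) = Ld i ∨ papp Td (Ld j) = Ld i := by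
  decide +kernel

theorem ltC : ∀ i < 12, Lc i < 24 := by decide +kernel
theorem ltD : ∀ i < 12, Ld i < 24 := by decide +kernel

theorem surjCD : ∀ i < 24, (∃ j < 12, Lc j = i) ∨ (∃ j < 12, Ld j = i) := by decide +kernel

theorem mo_comm_d {T : ℕ} (hT : ok T = true) (h1 : isCode dm = true) (h2 : pimg T dm = dm) :
    mo 0 T * signCo0 (cd dm) = signCo0 (cd dm) * mo 0 T := by
  unfold mo
  rw [cd_zero, signCo0_zero, one_mul, perm_mul_sign, wordPerm_cd hT h1, h2]

theorem eq_one_of_fix_d {l : Co0} (hl : Le (signCo0 (cd dm)) l) (h1 : l • e8 (pt 1) = e8 (pt 1))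
    (h0 : l • e8 (pt 0) = e8 (pt 0)) : l = 1 := by
  have h := okC
  simp only [Bool.and_eq_true, Nat.beq_eq] at h
  obtain ⟨⟨⟨⟨⟨hc, hd⟩, hm⟩, h2⟩, h3⟩, -⟩ := h
  apply co0_ext_e8
  intro i
  rw [one_smul]
  rcases surjCD (idx i) (idx_lt i) with ⟨j, hj, hji⟩ | ⟨j, hj, hji⟩
  · obtain ⟨x, hx, hx'⟩ := reach hc hd (mo_comm_d hc hm h2) (mo_comm_d hd hm h3) Lc 12 ltC chainC j hj
    rw [hji, pt_idx] at hx'
    exact fix_move hl hx hx' h1
  · obtain ⟨x, hx, hx'⟩ := reach hc hd (mo_comm_d hc hm h2) (mo_comm_d hd hm h3) Ld 12 ltD chainD j hj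
    rw [hji, pt_idx] at hx'
    exact fix_move hl hx hx' h0

/-- Two points are separated by a code word. -/
theorem sepD : ∀ p < 24, (p = 0 ∨ ∃ k < 12, Nat.testBit (basisMask k) p ≠ Nat.testBit (basisMask k) 0) ∧
    (p = 1 ∨ ∃ k < 12, Nat.testBit (basisMask k) p ≠ Nat.testBit (basisMask k) 1) := by
  decide +kernel

theorem okB : ∀ k < 12, isCode (basisMask k) = true := by decide +kernel

theorem eq_of_sep {l : Co0} (hN : l ∈ N) (hs : ∀ c : golayCode, signCo0 c * l = l * signCo0 c) {a : ℕ}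
    (ha : a < 24) (h : ∀ p < 24, p = a ∨ ∃ k < 12, Nat.testBit (basisMask k) p ≠
      Nat.testBit (basisMask k) a) : l • e8 (pt a) = e8 (pt a) ∨ l • e8 (pt a) = -e8 (pt a) := by
  obtain ⟨p, hp⟩ := exists_line hN (pt a)
  have hpa : p = pt a := by
    rcases h (idx p) (idx_lt p) with h1 | ⟨k, hk, hne⟩
    · rw [← h1, pt_idx]
    · exfalso
      have h2 := mem_iff (hs (cd (basisMask k))) hp
      rw [sup_cd (okB k hk), mem_fin, mem_fin, idx_pt ha] at h2
      apply hne
      cases h3 : Nat.testBit (basisMask k) (idx p) <;> cases h4 : Nat.testBit (basisMask k) a <;> simp_all only [_root_.Subtype.forall, _root_.ne_eq, _root_.not_true_eq_false, _root_.Bool.false_eq_true, _root_.not_false_eq_true, _root_.iff_false, _root_.Bool.true_eq_false, _root_.iff_true]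
  rwa [hpa] at hp

theorem eq_of_le_dm {l : Co0} (hl : Le (signCo0 (cd dm)) l) :
    l = 1 ∨ l = ζ ∨ l = signCo0 (cd dm) ∨ l = ζ * signCo0 (cd dm) := by
  have h := okC
  simp only [Bool.and_eq_true, Nat.beq_eq] at h
  obtain ⟨⟨⟨⟨⟨-, -⟩, hm⟩, -⟩, -⟩, h12⟩ := h
  have hw : wt (cd dm) = 12 := by rw [wt_cd hm, h12]
  have hs : ∀ c : golayCode, signCo0 c * l = l * signCo0 c := fun c => hl _ (by
    rw [← signCo0_add, ← signCo0_add, add_comm])
  have hN : l ∈ N := mem_N_of_conj_dodecad _ _ hw hw l (hs _).symm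
  have h0 := eq_of_sep hN hs (a := 0) (by norm_num) (fun p hp => (sepD p hp).1)
  have h1 := eq_of_sep hN hs (a := 1) (by norm_num) (fun p hp => (sepD p hp).2)
  set s := signCo0 (cd dm) with hsdef
  have s1 : s • e8 (pt 1) = -e8 (pt 1) := sign_smul_e8_of_mem (by
    rw [sup_cd hm, mem_fin, idx_pt (by norm_num)]; decide +kernel)
  have s0 : s • e8 (pt 0) = e8 (pt 0) := sign_smul_e8_of_notMem (by
    rw [sup_cd hm, mem_fin, idx_pt (by norm_num)]; decide +kernel)
  have hss : s * s = 1 := signCo0_mul_self _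
  rcases h1 with h1 | h1 <;> rcases h0 with h0 | h0
  · exact Or.inl (eq_one_of_fix_d hl h1 h0)
  · -- `ζ s l`
    right; right; right
    have h2 : ζ * s * l = 1 := by
      apply eq_one_of_fix_d (((Le.zeta _).mul (Le.refl _)).mul hl)
      · rw [mul_smul, mul_smul, h1, s1, SporadicA.Co0Mono.smul_neg, neg_e8, neg_neg]
      · rw [mul_smul, mul_smul, h0, SporadicA.Co0Mono.smul_neg, s0, SporadicA.Co0Mono.smul_neg, neg_e8, neg_neg]
    have h3 : ζ * s * (ζ * s) = 1 := by
      rw [mul_assoc, ← mul_assoc s ζ, ζ_cen, mul_assoc ζ s, hss, mul_one, ζ_sq]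
    have h4 : l = ζ * s * (ζ * s * l) := by rw [← mul_assoc, h3, one_mul]
    rw [h4, h2, mul_one]
  · right; right; left
    have h2 : s * l = 1 := by
      apply eq_one_of_fix_d ((Le.refl _).mul hl)
      · rw [mul_smul, h1, SporadicA.Co0Mono.smul_neg, s1, neg_neg]
      · rw [mul_smul, h0, s0]
    have h4 : l = s * (s * l) := by rw [← mul_assoc, hss, one_mul]
    rw [h4, h2, mul_one]
  · right; left
    apply eq_of_mul
    apply eq_one_of_fix_d ((Le.zeta _).mul hl)
    · rw [mul_smul, h1, SporadicA.Co0Mono.smul_neg, neg_e8, neg_neg]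
    · rw [mul_smul, h0, SporadicA.Co0Mono.smul_neg, neg_e8, neg_neg]

/-! ### All -/

theorem back {k l g s : Co0} (hg : g * k * g⁻¹ = s)
    (h : g * l * g⁻¹ = 1 ∨ g * l * g⁻¹ = ζ ∨ g * l * g⁻¹ = s ∨ g * l * g⁻¹ = ζ * s) :
    l = 1 ∨ l = ζ ∨ l = k ∨ l = ζ * k := by
  have e : l = g⁻¹ * (g * l * g⁻¹) * g := by group
  rcases h with h | h | h | h
  · left; rw [e, h]; group
  · right; left
    rw [e, h, ζ_cen]
    group
  · right; right; left
    rw [e, h, ← hg]
    group
  · right; right; right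
    rw [e, h, ← hg, ← mul_assoc g⁻¹, ζ_cen]
    group

/-- **The centraliser of the centraliser** of an element `k ≠ ±1` of `Co0` with `k² = ±1` is `⟨k, -1⟩`. -/
theorem eq_of_le {k l : Co0} (h1 : k ≠ 1) (hz : k ≠ ζ) (h2 : k * k = 1 ∨ k * k = ζ) (hl : Le k l) :
    l = 1 ∨ l = ζ ∨ l = k ∨ l = ζ * k := by
  have octad : ∀ k : Co0, P k → Le k l → l = 1 ∨ l = ζ ∨ l = k ∨ l = ζ * k := by
    rintro k ⟨g, c, hc, hg⟩ hl
    have h3 := hl.conj g
    rw [hg] at h3
    apply back hg
    have h4 := centralizer_Rh hc (g := g * l * g⁻¹) (fun r hr => (h3 r (mem_C0.1 (Rh_le_C0 hc hr))).symm)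
    rcases h4 with h4 | h4 | h4 | h4
    · exact Or.inl h4
    · exact Or.inr (Or.inl h4)
    · exact Or.inr (Or.inr (Or.inl h4))
    · right; right; right
      rw [h4, add_comm, signCo0_add]
  rcases h2 with h2 | h2
  · rcases cases k h2 h1 hz with h | h | ⟨g, c, hc, hg⟩
    · exact octad k h hl
    · have h3 : Le (ζ * k) l := by
        intro x hx
        apply hl
        have h4 : ζ * (x * k) = ζ * (k * x) := by
          rw [← mul_assoc, ← ζ_cen x, mul_assoc, hx, mul_assoc]
        exact mul_left_cancel h4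
      rcases octad _ h h3 with h4 | h4 | h4 | h4
      · exact Or.inl h4
      · exact Or.inr (Or.inl h4)
      · exact Or.inr (Or.inr (Or.inr h4))
      · right; right; left
        rw [h4, ← mul_assoc, ζ_sq, one_mul]
    · have h := okC
      simp only [Bool.and_eq_true, Nat.beq_eq] at h
      obtain ⟨⟨⟨⟨⟨-, -⟩, hm⟩, -⟩, -⟩, h12⟩ := h
      have hw : wt (cd dm) = 12 := by rw [wt_cd hm, h12]
      obtain ⟨g', hg'⟩ := conj_dodecad hc hw
      have h3 : g' * g * k * (g' * g)⁻¹ = signCo0 (cd dm) := by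
        rw [← hg', ← hg]; group
      have h4 := hl.conj (g' * g)
      rw [h3] at h4
      exact back h3 (eq_of_le_dm h4)
  · obtain ⟨g, hg⟩ := conj_b0_of_sq_neg k h2
    have h3 := hl.conj g
    rw [hg] at h3
    exact back hg (eq_of_le_b0 h3)

/-! ### The automorphisms -/

theorem conj_cases {k : Co0} {α : MulAut Co0} (hk : ∀ g, α g = k * g * k⁻¹) (h : α * α = 1) (h1 : α ≠ 1) :
    k ≠ 1 ∧ k ≠ ζ ∧ (k * k = 1 ∨ k * k = ζ) := by
  refine ⟨?_, ?_, ?_⟩
  · rintro rfl
    apply h1
    ext g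
    rw [hk, one_mul, inv_one, mul_one]
    rfl
  · rintro rfl
    apply h1
    ext g
    rw [hk, ← ζ_cen, mul_inv_cancel_right]
    rfl
  · rw [← mem_center_iff, Subgroup.mem_center_iff]
    intro g
    have h2 : (α * α) g = g := by rw [h]; rfl
    rw [MulAut.mul_apply, hk, hk] at h2
    have h3 : g = k * k * g * (k * k)⁻¹ := by
      conv_lhs => rw [← h2]
      group
    conv_lhs => rw [h3]
    group

theorem pairFree_co0 : PairFree Co0 := by
  intro α β hα hβ hαβ hα1 hβ1 hne h1 _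
  obtain ⟨k, hk⟩ := Cfsg.Agent.ConwayFacts.AutCo1.inner_Co0 α
  obtain ⟨l, hl⟩ := Cfsg.Agent.ConwayFacts.AutCo1.inner_Co0 β
  obtain ⟨hk1, hkz, hkk⟩ := conj_cases hk hα hα1
  obtain ⟨hl1, hlz, -⟩ := conj_cases hl hβ hβ1
  have hle : Le k l := by
    intro x hx
    have h2 := h1 x (by rw [hk, ← hx, mul_inv_cancel_right])
    rw [hl, mul_inv_eq_iff_eq_mul] at h2
    exact h2.symm
  rcases eq_of_le hk1 hkz hkk hle with h | h | h | h
  · exact hl1 h
  · exact hlz h
  · apply hne
    ext g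
    rw [hk, hl, h]
  · apply hne
    ext g
    rw [hk, hl, h]
    have e : ζ * k * g * (ζ * k)⁻¹ = ζ * (k * g * k⁻¹) * ζ⁻¹ := by group
    rw [e, ← ζ_cen, mul_inv_cancel_right]

/-- A noncentral involution which is a product `k (k^x)⁻¹`. -/
def Sd (k : Co0) : Prop := ∃ x : Co0, (k * x * k⁻¹)⁻¹ * x ∉ Subgroup.center Co0 ∧
  ((k * x * k⁻¹)⁻¹ * x) * ((k * x * k⁻¹)⁻¹ * x) = 1

theorem Sd.of_conj {k l g : Co0} (hg : g * k * g⁻¹ = l) (h : Sd l) : Sd k := by
  obtain ⟨x, hx, hx2⟩ := h
  have e : (k * (g⁻¹ * x * g) * k⁻¹)⁻¹ * (g⁻¹ * x * g) = g⁻¹ * ((l * x * l⁻¹)⁻¹ * x) * g := by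
    rw [← hg]; group
  refine ⟨g⁻¹ * x * g, ?_, ?_⟩
  · rw [e]
    intro hc
    apply hx
    have h1 := (mem_center_iff _).1 hc
    rw [mem_center_iff]
    have e2 : (l * x * l⁻¹)⁻¹ * x = g * (g⁻¹ * ((l * x * l⁻¹)⁻¹ * x) * g) * g⁻¹ := by group
    rcases h1 with h1 | h1
    · left; rw [e2, h1]; group
    · right; rw [e2, h1, ζ_cen]; group
  · rw [e]
    have e2 : g⁻¹ * ((l * x * l⁻¹)⁻¹ * x) * g * (g⁻¹ * ((l * x * l⁻¹)⁻¹ * x) * g) =
      g⁻¹ * (((l * x * l⁻¹)⁻¹ * x) * ((l * x * l⁻¹)⁻¹ * x)) * g := by group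
    rw [e2, hx2]
    group

theorem Sd.neg {k : Co0} (h : Sd k) : Sd (ζ * k) := by
  obtain ⟨x, hx, hx2⟩ := h
  have e : ζ * k * x * (ζ * k)⁻¹ = k * x * k⁻¹ := by
    have e1 : ζ * k * x * (ζ * k)⁻¹ = ζ * (k * x * k⁻¹) * ζ⁻¹ := by group
    rw [e1, ← ζ_cen, mul_inv_cancel_right]
  refine ⟨x, ?_, ?_⟩
  · rw [e]; exact hx
  · rw [e]; exact hx2

/-- `k` commutes with a conjugate `≠ ± k` with the same square. -/
theorem Sd.of_comm {k l g : Co0} (hg : g⁻¹ * k * g = l) (hkl : k * l = l * k) (h1 : k ≠ l) (h2 : k ≠ ζ * l)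
    (hsq : k * k = l * l) : Sd k := by
  have e : (k * g * k⁻¹)⁻¹ * g = k * l⁻¹ := by
    rw [← hg]; group
  have hkl' : l⁻¹ * k = k * l⁻¹ := by
    rw [inv_mul_eq_iff_eq_mul, ← mul_assoc, ← hkl, mul_inv_cancel_right]
  refine ⟨g, ?_, ?_⟩
  · rw [e, mem_center_iff]
    rintro (h | h)
    · exact h1 (mul_inv_eq_one.1 h)
    · exact h2 (mul_inv_eq_iff_eq_mul.1 h)
  · rw [e, mul_assoc, ← mul_assoc l⁻¹, hkl', mul_assoc, ← mul_assoc, hsq]
    group

theorem sd_sign {c d : golayCode} {x : Co0} (hx : x⁻¹ * signCo0 c * x = signCo0 d) (h1 : c ≠ d)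
    (h2 : c ≠ allOne + d) : Sd (signCo0 c) := by
  refine Sd.of_comm hx ?_ (fun h => h1 (sign_inj h)) (fun h => h2 (sign_inj (by rw [h, signCo0_add]))) ?_
  · rw [← signCo0_add, ← signCo0_add, add_comm]
  · rw [signCo0_mul_self, signCo0_mul_self]

theorem ne_cd {m n : ℕ} (hm : isCode m = true) (hn : isCode n = true) (h : m ≠ n)
    (h' : m ≠ 16777215 ^^^ n) : cd m ≠ cd n ∧ cd m ≠ allOne + cd n := by
  refine ⟨fun h1 => h (cd_inj hm hn h1), fun h1 => h' ?_⟩
  rw [← cd_all, ← cd_xor (by decide +kernel) hn] at h1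
  exact cd_inj hm (isCode_xor (by decide +kernel) hn) h1

theorem okE : (isCode 13062145 && isCode 4845570 && Nat.beq (popcount 13062145) 8 &&
    Nat.beq (popcount 4845570) 8 && isCode 8245261 && isCode 15953934 &&
    Nat.beq (popcount 8245261) 12 && Nat.beq (popcount 15953934) 12) = true := by decide +kernel

theorem inv_conj {g s t : Co0} (h : g * s * g⁻¹ = t) : g⁻¹ * t * g = s := by
  rw [← h]; group

theorem sd_octad : ∀ k : Co0, P k → Sd k := by
  rintro k ⟨g, c, hc, hg⟩
  have h := okE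
  simp only [Bool.and_eq_true, Nat.beq_eq] at h
  obtain ⟨⟨⟨⟨⟨⟨⟨h1, h2⟩, h3⟩, h4⟩, -⟩, -⟩, -⟩, -⟩ := h
  have hw1 : wt (cd 13062145) = 8 := by rw [wt_cd h1, h3]
  have hw2 : wt (cd 4845570) = 8 := by rw [wt_cd h2, h4]
  obtain ⟨x, hx⟩ := conj_octad hw2 hw1
  obtain ⟨y, hy⟩ := conj_octad hc hw1
  obtain ⟨n1, n2⟩ := ne_cd h1 h2 (by norm_num) (by decide +kernel)
  have h5 := (sd_sign (inv_conj hx) n1 n2).of_conj hy
  exact h5.of_conj hg

theorem sd_dodecad : ∀ k : Co0, D k → Sd k := by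
  rintro k ⟨g, c, hc, hg⟩
  have h := okE
  simp only [Bool.and_eq_true, Nat.beq_eq] at h
  obtain ⟨⟨⟨⟨⟨⟨⟨-, -⟩, -⟩, -⟩, h1⟩, h2⟩, h3⟩, h4⟩ := h
  have hw1 : wt (cd 8245261) = 12 := by rw [wt_cd h1, h3]
  have hw2 : wt (cd 15953934) = 12 := by rw [wt_cd h2, h4]
  obtain ⟨x, hx⟩ := conj_dodecad hw2 hw1
  obtain ⟨y, hy⟩ := conj_dodecad hc hw1
  obtain ⟨n1, n2⟩ := ne_cd h1 h2 (by norm_num) (by decide +kernel)
  have h5 := (sd_sign (inv_conj hx) n1 n2).of_conj hy
  exact h5.of_conj hg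

theorem sd_b0 : Sd b0 := by
  have h := okO
  rw [Bool.and_eq_true, Bool.and_eq_true, Nat.beq_eq, Nat.beq_eq] at h
  obtain ⟨⟨hm, hp⟩, h8⟩ := h
  set t := signCo0 (cd 11538486) with ht
  have htb : t * b0 = b0 * t := sign_comm_b0 (by rw [Bool.and_eq_true, Nat.beq_eq]; exact ⟨hm, hp⟩)
  have htt : t * t = 1 := signCo0_mul_self _
  have hw : wt (cd 11538486) = 8 := by rw [wt_cd hm, h8]
  have hsq : (b0 * t) * (b0 * t) = ζ := by
    rw [mul_assoc, ← mul_assoc t, htb, mul_assoc, htt, mul_one, b0_sq]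
  obtain ⟨g, hg⟩ := conj_b0_of_sq_neg (b0 * t) hsq
  refine Sd.of_comm (l := b0 * t) (g := g) (inv_conj hg) ?_ ?_ ?_ ?_
  · rw [mul_assoc, htb]
  · intro h
    exact sign_ne_one (c := cd 11538486) (by omega) (left_eq_mul.1 h)
  · intro h
    apply sign_ne_ζ (c := cd 11538486) (by omega)
    have h1 : b0 * t = b0 * ζ := by
      calc b0 * t = ζ * (b0 * t) * t := by rw [← h]
        _ = ζ * b0 * (t * t) := by group
        _ = b0 * ζ := by rw [htt, mul_one, ζ_cen]
    exact mul_left_cancel h1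
  · rw [hsq, b0_sq]

theorem sqDiff_co0 : SqDiff Co0 := by
  intro α hα hα1
  obtain ⟨k, hk⟩ := Cfsg.Agent.ConwayFacts.AutCo1.inner_Co0 α
  obtain ⟨hk1, hkz, hkk⟩ := conj_cases hk hα hα1
  have key : Sd k := by
    rcases hkk with h | h
    · rcases cases k h hk1 hkz with h | h | h
      · exact sd_octad k h
      · have h3 := (sd_octad _ h).neg
        rwa [← mul_assoc, ζ_sq, one_mul] at h3
      · exact sd_dodecad k h
    · obtain ⟨g, hg⟩ := conj_b0_of_sq_neg k h
      exact sd_b0.of_conj hg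
  obtain ⟨x, hx, hx2⟩ := key
  refine ⟨x, ?_, ?_⟩
  · rw [hk]; exact hx
  · rw [hk]; exact hx2

/-! ### Abstract `2.Co1` -/

theorem noDouble_m24 : Cfsg.Agent.KFacts.MulDef.NoDouble M24 := fun _ _ _ π c h =>
  Cfsg.Agent.KFacts.MulM24.not_cov π c ⟨⟨h.ne, h.sq, h.cen, h.surj, h.ker⟩, h.perf⟩

variable {K : Type*} [Group K] [Finite K]

theorem facts_of_surj (hK : commutator K = ⊤) {f : K →* Cfsg.Spor.Co1} (hf : Function.Surjective f)
    (hk : f.ker ≤ Subgroup.center K) (h2 : IsPGroup 2 f.ker) (hne : f.ker ≠ ⊥) :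
    PairFree K ∧ SqDiff K := by
  obtain ⟨θ, -⟩ := Cfsg.Agent.KFacts.MulCo.CoZero.exists_equiv_co0 noDouble_m24 hK hf hk h2 hne
  exact ⟨pairFree_co0.map θ.symm, sqDiff_co0.map θ.symm⟩

/-- **(P1), (P2) for `2.Co1`.** -/
theorem facts_of_quot (hK : commutator K = ⊤) (h2 : Nat.card (Subgroup.center K) = 2)
    (hX : Spor.IsoCo1 (K ⧸ Subgroup.center K)) : PairFree K ∧ SqDiff K := by
  obtain ⟨e⟩ := hX
  let f : K →* Spor.Co1 := e.toMonoidHom.comp (QuotientGroup.mk' (Subgroup.center K))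
  have hf : Function.Surjective f := e.surjective.comp (QuotientGroup.mk'_surjective _)
  have hker : f.ker = Subgroup.center K := by
    ext x
    rw [MonoidHom.mem_ker, ← QuotientGroup.eq_one_iff (N := Subgroup.center K) x]
    show e (QuotientGroup.mk' (Subgroup.center K) x) = 1 ↔ _
    exact map_eq_one_iff e e.injective
  refine facts_of_surj hK hf hker.le ?_ ?_
  · rw [hker]
    exact IsPGroup.of_card (n := 1) (by rw [h2, pow_one])
  · rw [hker]
    intro h
    rw [h, Subgroup.card_bot] at h2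
    omega

theorem pairFree (hK : commutator K = ⊤) (h2 : Nat.card (Subgroup.center K) = 2)
    (hX : Spor.IsoCo1 (K ⧸ Subgroup.center K)) : PairFree K := (facts_of_quot hK h2 hX).1

theorem sqDiff (hK : commutator K = ⊤) (h2 : Nat.card (Subgroup.center K) = 2)
    (hX : Spor.IsoCo1 (K ⧸ Subgroup.center K)) : SqDiff K := (facts_of_quot hK h2 hX).2

end Cfsg.Agent.OddHalf.D4.Spor.TwoCo1
end

-- part: KFacts/Co1D4/Main
section
prune_inst 0x20004000400000000000000000000020000000020040000000000400000800000000000020000410000000000000000000000000020000000a000000000000000000000000000000000000000000000000000000000000000000000000000000000000000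
set_option linter.all false
open scoped Cfsg.Agent.FastGrp

-- merged: Cfsg.Agent.KFacts.Co1D4.DodBal
section

/-!
# `O(C(c)) = 1` for the involutions `c` of `Co₁` given by dodecads
-/

set_option autoImplicit false
open Cfsg
open scoped Pointwise

namespace Cfsg.Agent.KFacts.Co1D4.DodBal

open Cfsg.Agent.SporadicA.GolayBase Cfsg.Agent.SporadicA.GolayPerm
open Cfsg.Agent.SporadicStructure.M24El
open Cfsg.Agent.SporadicA.Co0Mono Cfsg.Agent.SporadicA.Co1Simple
open Cfsg.Agent.CoOneType.SignFacts (sup mem_sup notMem_sup wt sup_mem wt_cases wt_add_allOne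
  sign_allOne_comm mem_N_of_conj_dodecad)
open Cfsg.Agent.CoOneType.ClosingFacts (mk mk_mul mk_inv exists_mk mk_eq_one mk_eq)
open Cfsg.Agent.KFacts.Co1.OctGen (sign_inj)
open Cfsg.Agent.Co2Type.Mono

theorem sup_cd {m : ℕ} (h : isCode m = true) : sup (cd m) = fin m := by
  unfold sup
  rw [coe_cd h]
  exact support₂_word m

theorem wt_cd {m : ℕ} (h : isCode m = true) : wt (cd m) = popcount m := by
  unfold wt
  rw [sup_cd h, card_fin]

theorem sep : ∀ a < 24, ∀ b < 24, a = b ∨ ∃ k < 12, Nat.testBit (basisMask k) a ≠ Nat.testBit (basisMask k) b := by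
  decide +kernel

theorem okB : ∀ k < 12, isCode (basisMask k) = true ∧ popcount (basisMask k) = 8 := by (rewrite [Cfsg.Agent.GolayF.isCode_eq, Cfsg.Agent.GolayF.popcount_eq]; decide +kernel)

/-- a permutation fixing all the octads is trivial -/
theorem perm_eq_one {σ : M24} (h : ∀ c : golayCode, wt c = 8 → wordPerm σ c = c) : σ = 1 := by
  apply Subtype.ext
  apply Equiv.ext
  intro p
  have h0 : ∀ k < 12, (σ • p ∈ sup (cd (basisMask k)) ↔ p ∈ sup (cd (basisMask k))) := by
    intro k hk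
    have h1 := h (cd (basisMask k)) (by rw [wt_cd (okB k hk).1]; exact (okB k hk).2)
    have h2 := Cfsg.Agent.CoOneType.CoOneE.sup_wordPerm σ (cd (basisMask k))
    rw [h1] at h2
    conv_lhs => rw [h2]
    exact Finset.smul_mem_smul_finset_iff σ
  have h1 : idx (σ • p) = idx p := by
    rcases sep (idx (σ • p)) (idx_lt _) (idx p) (idx_lt _) with h2 | ⟨k, hk, h2⟩
    · exact h2
    · exfalso
      have h3 := h0 k hk
      rw [sup_cd (okB k hk).1, mem_fin, mem_fin] at h3
      apply h2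
      cases h4 : Nat.testBit (basisMask k) (idx (σ • p)) <;> cases h5 : Nat.testBit (basisMask k) (idx p) <;>
        simp_all only [_root_.Subtype.forall, _root_.ne_eq, _root_.not_true_eq_false, _root_.Bool.false_eq_true, _root_.not_false_eq_true, _root_.iff_true, _root_.Bool.true_eq_false, _root_.iff_false]
  have h2 := congrArg pt h1
  rw [pt_idx, pt_idx] at h2
  exact h2

/-- elements of `C(c)`, `c` a dodecad, are monomial -/
theorem mem_N {d : golayCode} (hd : wt d = 12) {g : Co0}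
    (h : _root_.Cfsg.Agent.CoOneType.ClosingFacts.mk g * _root_.Cfsg.Agent.CoOneType.ClosingFacts.mk (signCo0 d) = _root_.Cfsg.Agent.CoOneType.ClosingFacts.mk (signCo0 d) * _root_.Cfsg.Agent.CoOneType.ClosingFacts.mk g) : g ∈ N := by
  rw [← mk_mul, ← mk_mul, mk_eq] at h
  rcases h with h | h
  · exact mem_N_of_conj_dodecad d d hd hd g h
  · have h2 := wt_add_allOne d
    apply mem_N_of_conj_dodecad d (d + allOne) hd (by omega) g
    rw [h, signCo0_add, mul_assoc, mul_assoc, sign_allOne_comm]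

theorem mk_sign_eq {c d : golayCode} (h : _root_.Cfsg.Agent.CoOneType.ClosingFacts.mk (signCo0 c) = _root_.Cfsg.Agent.CoOneType.ClosingFacts.mk (signCo0 d)) : c = d ∨ c = d + allOne := by
  rcases (mk_eq _ _).1 h with h | h
  · exact Or.inl (sign_inj h)
  · rw [← signCo0_add] at h
    exact Or.inr (sign_inj h)

/-- **`O(C(c)) = 1`**. -/
theorem bal {d : golayCode} (hd : wt d = 12) (I : Subgroup Spor.Co1)
    (hI : ∀ i ∈ I, i * _root_.Cfsg.Agent.CoOneType.ClosingFacts.mk (signCo0 d) = _root_.Cfsg.Agent.CoOneType.ClosingFacts.mk (signCo0 d) * i)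
    (hn : ∀ c : Spor.Co1, c * mk (signCo0 d) = mk (signCo0 d) * c → ∀ i ∈ I, c * i * c⁻¹ ∈ I)
    (ho : Odd (Nat.card I)) : I = ⊥ := by
  have key : ∀ i ∈ I, i * i = 1 → i = 1 := by
    intro i hi hii
    have h3 : orderOf i ∣ 2 := orderOf_dvd_of_pow_eq_one (by rw [pow_two]; exact hii)
    have h4 : orderOf i ∣ Nat.card I := by
      have := orderOf_dvd_natCard (⟨i, hi⟩ : I)
      rwa [Subgroup.orderOf_mk] at this
    have h5 : orderOf i ∣ 1 := by
      have := Nat.dvd_gcd h3 h4
      rwa [Nat.Coprime.gcd_eq_one (Nat.coprime_two_left.2 ho)] at this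
    exact orderOf_eq_one_iff.1 (Nat.dvd_one.1 h5)
  rw [eq_bot_iff]
  intro i hi
  rw [Subgroup.mem_bot]
  obtain ⟨g, rfl⟩ := exists_mk i
  obtain ⟨a, σ, rfl⟩ := exists_sign_perm (mem_N hd (hI _ hi))
  have hσ : σ = 1 := by
    apply perm_eq_one
    intro c hc
    set g := signCo0 a * permCo0 σ with hg
    have h1 : g * signCo0 c * g⁻¹ = signCo0 (wordPerm σ c) := by
      have h2 : g * signCo0 c * g⁻¹ = signCo0 a * (permCo0 σ * signCo0 c * (permCo0 σ)⁻¹) * (signCo0 a)⁻¹ := by
        rw [hg]; group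
      rw [h2, perm_mul_sign_mul_inv, signCo0_inv, ← signCo0_add, ← signCo0_add]
      congr 1
      rw [add_comm a, add_assoc, signCo0_add_self a, add_zero]
    have h2 : _root_.Cfsg.Agent.CoOneType.ClosingFacts.mk (signCo0 c) * _root_.Cfsg.Agent.CoOneType.ClosingFacts.mk (signCo0 d) = _root_.Cfsg.Agent.CoOneType.ClosingFacts.mk (signCo0 d) * _root_.Cfsg.Agent.CoOneType.ClosingFacts.mk (signCo0 c) := by
      rw [← mk_mul, ← mk_mul, ← signCo0_add, ← signCo0_add, add_comm]
    have h3 := hn _ h2 _ (I.inv_mem hi)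
    have h4 : _root_.Cfsg.Agent.CoOneType.ClosingFacts.mk g * (mk (signCo0 c) * (_root_.Cfsg.Agent.CoOneType.ClosingFacts.mk g)⁻¹ * (mk (signCo0 c))⁻¹) ∈ I := I.mul_mem hi h3
    have h5 : mk g * (mk (signCo0 c) * (mk g)⁻¹ * (mk (signCo0 c))⁻¹) = _root_.Cfsg.Agent.CoOneType.ClosingFacts.mk (signCo0 (wordPerm σ c + c)) := by
      have : signCo0 (wordPerm σ c + c) = g * (signCo0 c * g⁻¹ * (signCo0 c)⁻¹) := by
        rw [signCo0_add, ← h1, signCo0_inv]; group
      rw [this]; rfl
    rw [h5] at h4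
    have h6 := key _ h4 (by
      rw [← mk_mul, ← signCo0_add, signCo0_add_self, signCo0_zero]; rfl)
    have h7 : _root_.Cfsg.Agent.CoOneType.ClosingFacts.mk (signCo0 (wordPerm σ c + c)) = _root_.Cfsg.Agent.CoOneType.ClosingFacts.mk (signCo0 0) := by rw [h6, signCo0_zero]; rfl
    have hwt : wt (wordPerm σ c) = wt c := by
      unfold wt
      rw [Cfsg.Agent.CoOneType.CoOneE.sup_wordPerm]
      exact Finset.card_smul_finset σ _
    rcases mk_sign_eq h7 with h8 | h8
    · calc wordPerm σ c = wordPerm σ c + c + c := by rw [add_assoc, signCo0_add_self, add_zero]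
        _ = c := by rw [h8, zero_add]
    · exfalso
      have h9 : wordPerm σ c = c + allOne := by
        calc wordPerm σ c = wordPerm σ c + c + c := by rw [add_assoc, signCo0_add_self, add_zero]
          _ = c + allOne := by rw [h8, zero_add, add_comm]
      have h10 := wt_add_allOne c
      rw [← h9, hwt] at h10
      omega
  subst hσ
  apply key _ hi
  rw [map_one, mul_one, ← mk_mul, signCo0_mul_self]; rfl

end Cfsg.Agent.KFacts.Co1D4.DodBal

end

-- merged: Cfsg.Agent.KFacts.Co1D4.Order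
section

/-!
# `|C_{Co0}(b₀)| ≤ 2012774400` for `b₀² = -1` (helper927, text of helper249)

`C = C(b₀)` acts on `Λ / 2Λ`; `ker (1 + b₀) = im (1 + b₀)` has order 4096 and contains the orbit of the class of `8 e_∞`,
whose stabiliser is monomial of order at most `64 · 7680`.
-/

set_option autoImplicit false

namespace Cfsg.Agent.KFacts.Co1D4.Order

open Cfsg Cfsg.Agent.SporadicA.GolayBase Cfsg.Agent.SporadicA.GolayPerm
open Cfsg.Agent.SporadicStructure.M24El Cfsg.Agent.SporadicA.Co0Mono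
open Cfsg.Agent.SporadicStructure.Co0Base (e8 e8_coe co0_smul_add)
open Cfsg.Agent.SporadicA.Co1Simple (exists_sign_perm N mem_N_of_e8 mem_crossSet_of_congr crossSet allOne e8_sub
  sqNorm_e8)
open Cfsg.Agent.Co2Type.Mono (exists_cd cd cd_inj)
open Cfsg.Agent.CoOneType.InvMain (b0 b0m sp_mul sp_inj isCode_b0m b0_mul_self)
open Cfsg.Agent.J4.M24InvolData (P2)
open Cfsg.Agent.MonsterU.Lam2 hiding b0
open scoped Pointwise

/-! ### the map `1 + b₀` -/

/-- `x ↦ x + b₀ x` -/
noncomputable def T : L2 →+ L2 := AddMonoidHom.id L2 + act b0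

theorem T_apply (x : L2) : T x = x + b0 • x := rfl

theorem allOne_smul (v : leechLattice) : signCo0 allOne • v = -v := by
  apply Subtype.ext
  rw [signCo0_smul]
  funext i
  rw [signMap_apply]
  show sgn _ * _ = -((v : GolayPt → ℤ) i)
  have : (allOne : GolayPt → ZMod 2) i = 1 := rfl
  rw [this, sgn_one]
  ring

theorem b0_b0 (v : leechLattice) : b0 • b0 • v = -v := by
  rw [← mul_smul, b0_mul_self, allOne_smul]

theorem ker_le_range : T.ker ≤ T.range := by
  intro x hx
  obtain ⟨v, rfl⟩ := cl_surjective x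
  have h1 : cl v + b0 • cl v = 0 := hx
  rw [smul_cl, ← map_add, cl_eq_zero] at h1
  obtain ⟨u, hu⟩ := h1
  -- v = u - b₀ u
  have h2 : (2 : ℕ) • v = 2 • (u - b0 • u) := by
    have h3 : b0 • (v + b0 • v) = 2 • (b0 • u) := by rw [hu, smul_two]
    rw [co0_smul_add, b0_b0] at h3
    rw [_root_.smul_sub, ← hu, ← h3, two_smul]
    abel
  have h4 : v = u - b0 • u := by
    apply Subtype.ext
    funext i
    have h5 := congrArg (fun w : leechLattice => (w : GolayPt → ℤ) i) h2
    have e : ∀ w : leechLattice, ((2 • w : leechLattice) : GolayPt → ℤ) i = 2 * (w : GolayPt → ℤ) i := by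
      intro w
      rw [two_smul]
      show (w : GolayPt → ℤ) i + (w : GolayPt → ℤ) i = _
      ring
    simp only [e] at h5
    omega
  refine ⟨cl u, ?_⟩
  rw [T_apply, h4, cl_sub, smul_cl]

theorem card_ker : Nat.card T.ker ≤ 4096 := by
  have hfin : Finite L2 := Nat.finite_of_card_ne_zero (by rw [card_L2]; norm_num)
  have h1 : Nat.card T.ker * Nat.card T.range = 2 ^ 24 := by
    rw [← card_L2, ← T.ker.card_mul_index, AddSubgroup.index_ker]
  have h2 : Nat.card T.ker ≤ Nat.card T.range := AddSubgroup.card_le_of_le ker_le_range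
  by_contra h
  have h3 : 4097 * 4097 ≤ Nat.card T.ker * Nat.card T.range := Nat.mul_le_mul (by omega) (by omega)
  rw [h1] at h3
  norm_num at h3

/-! ### the class of `8 e_∞` -/

/-- the class -/
noncomputable def x0 : L2 := cl (e8 none)

theorem cl_e8 (i : GolayPt) : cl (e8 i) = x0 := by
  obtain ⟨u, hu⟩ := e8_sub i none
  rw [hu, map_add, cl_two, add_zero]
  rfl

theorem e8_cl_of_mem {g : Co0} (hg : g ∈ N) : g • x0 = x0 := by
  obtain ⟨c, σ, rfl⟩ := exists_sign_perm hg
  have h1 : (signCo0 c * permCo0 σ) • e8 none = e8 ((σ : Equiv.Perm GolayPt) none) ∨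
      (signCo0 c * permCo0 σ) • e8 none = -e8 ((σ : Equiv.Perm GolayPt) none) := by
    rw [mul_smul, Cfsg.Agent.SporadicA.Co1Simple.perm_smul_e8]
    exact Cfsg.Agent.SporadicA.Co1Simple.sgn_smul_e8 _ _
  unfold x0
  rw [smul_cl]
  rcases h1 with h | h
  · rw [h]; exact cl_e8 _
  · rw [h, cl_neg]; exact cl_e8 _

theorem x0_ne : x0 ≠ 0 := by
  intro h
  obtain ⟨u, hu⟩ := cl_eq_zero.1 h
  have hc : ∀ i, (u : GolayPt → ℤ) i = if i = none then 4 else 0 := by
    intro i
    have h1 := congrArg (fun w : leechLattice => (w : GolayPt → ℤ) i) hu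
    have e : ((2 • u : leechLattice) : GolayPt → ℤ) i = 2 * (u : GolayPt → ℤ) i := by
      rw [two_smul]
      show (u : GolayPt → ℤ) i + (u : GolayPt → ℤ) i = _
      ring
    simp only [e, e8_coe, Pi.single_apply] at h1
    split_ifs at h1 ⊢ <;> omega
  have hn : sqNorm (u : GolayPt → ℤ) = 16 := by
    unfold sqNorm
    simp [hc]
  have h0 : (u : GolayPt → ℤ) ≠ 0 := by
    intro h0
    rw [h0] at hn
    simp [sqNorm] at hn
  have := Cfsg.Agent.SporadicA.LeechMin.le_sqNorm u.2 h0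
  omega

theorem b0_mem : b0 ∈ N :=
  N.mul_mem (Cfsg.Agent.SporadicA.Co1Simple.sign_mem_N _) (Cfsg.Agent.SporadicA.Co1Simple.perm_mem_N _)

/-- the centraliser -/
abbrev C : Subgroup Co0 := Subgroup.centralizer ({b0} : Set Co0)

theorem orbit_le : (MulAction.orbit C x0).ncard ≤ 4095 := by
  have hfin : Finite L2 := Nat.finite_of_card_ne_zero (by rw [card_L2]; norm_num)
  have h1 : MulAction.orbit C x0 ⊆ (T.ker : Set L2) \ {0} := by
    rintro _ ⟨⟨g, hg⟩, rfl⟩
    have hg' : g * b0 = b0 * g := Subgroup.mem_centralizer_singleton_iff.1 hg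
    constructor
    · show T (g • x0) = 0
      rw [T_apply, ← mul_smul, ← hg', mul_smul, e8_cl_of_mem b0_mem, Cfsg.Agent.MonsterU.Lam2.add_self]
    · intro h0
      have h0' : g • x0 = 0 := h0
      apply x0_ne
      have h2 := congrArg (fun y => g⁻¹ • y) h0'
      simpa using h2
  have h2 : ((T.ker : Set L2) \ {0}).ncard = Nat.card T.ker - 1 := by
    rw [Set.ncard_sdiff_singleton_of_mem (by exact T.ker.zero_mem)]
    rfl
  have h3 := Set.ncard_le_ncard h1 (Set.toFinite _)
  rw [h2] at h3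
  have := card_ker
  omega

/-! ### the stabiliser -/

theorem stab_mem {g : Co0} (h : g • x0 = x0) : g ∈ N := by
  have h1 : cl (g • e8 none) = cl (e8 none) := h
  obtain ⟨u, hu⟩ := cl_eq.1 h1
  have hu' : g • e8 none = e8 none + (2 : ℕ) • u := by rw [← hu]; abel
  apply mem_N_of_e8
  intro j
  obtain ⟨w, hw⟩ := e8_sub j none
  refine mem_crossSet_of_congr _ (u + g • w) none ?_ ?_
  · rw [sqNorm_smul]; exact sqNorm_e8 j
  · rw [hw, co0_smul_add, smul_two, hu', _root_.smul_add]
    abel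

/-- the invariant words -/
def fixL : List ℕ := (List.range 4096).filter fun i => Nat.beq (pimg P2 (enc i)) (enc i)

private noncomputable def _root_.Cfsg.Agent.GolayF.f0 : {f // @Cfsg.Agent.KFacts.Co1D4.Order.fixL = f} :=
  ⟨_, by delta Cfsg.Agent.KFacts.Co1D4.Order.fixL; rewrite [Cfsg.Agent.GolayF.pimg_eq, Cfsg.Agent.GolayF.enc_eq]; exact rfl⟩

theorem length_fixL : fixL.length = 64 := by (rewrite [Cfsg.Agent.GolayF.f0.2]; decide +kernel)

theorem ok_P2 : ok P2 = true := Cfsg.Agent.J4.M24Invol.ok_P2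

theorem card_fix : Nat.card {d : golayCode // wordPerm (el P2) d = d} ≤ 64 := by
  classical
  have h : ∀ d : golayCode, wordPerm (el P2) d = d → d ∈ (fixL.map fun i => cd (enc i)).toFinset := by
    intro d hd
    obtain ⟨m, hm, rfl⟩ := exists_cd d
    rw [Cfsg.Agent.Co2Type.Mono.wordPerm_cd ok_P2 hm] at hd
    have h1 := cd_inj (Cfsg.Agent.Co2Type.Mono.isCode_pimg ok_P2 hm) hm hd
    obtain ⟨i, hi, rfl⟩ := isCode_iff_exists.1 hm
    rw [List.mem_toFinset, List.mem_map]
    refine ⟨i, List.mem_filter.2 ⟨List.mem_range.2 hi, ?_⟩, rfl⟩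
    exact Nat.beq_eq.mpr h1
  have h2 : Nat.card {d : golayCode // wordPerm (el P2) d = d} ≤
      Nat.card {d : golayCode // d ∈ (fixL.map fun i => cd (enc i)).toFinset} :=
    Nat.card_le_card_of_injective (fun d => ⟨d.1, h d.1 d.2⟩) fun a b hab =>
      Subtype.ext (congrArg (fun z : {d : golayCode // d ∈ (fixL.map fun i => cd (enc i)).toFinset} => z.1) hab)
  refine h2.trans ?_
  rw [Nat.card_eq_fintype_card, Fintype.card_coe]
  refine (List.toFinset_card_le _).trans ?_
  rw [List.length_map, length_fixL]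

theorem comm_sp {c : golayCode} {σ : M24} (h : signCo0 c * permCo0 σ * b0 = b0 * (signCo0 c * permCo0 σ)) :
    σ * el P2 = el P2 * σ ∧ c + wordPerm σ (cd b0m) = cd b0m + wordPerm (el P2) c := by
  unfold b0 at h
  rw [sp_mul, sp_mul] at h
  have h1 := sp_inj h
  exact ⟨h1.2, h1.1⟩

theorem card_stab : Nat.card (MulAction.stabilizer C x0) ≤ 7680 * 64 := by
  classical
  have hM : Finite M24 := inferInstance
  have hco : Finite Co0 := Cfsg.Agent.CoOneType.FrameFix.finite_co0
  have hG : Finite golayCode := inferInstance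
  have hex : ∀ s : MulAction.stabilizer C x0, ∃ (c : golayCode) (σ : M24), ((s : C) : Co0) = signCo0 c * permCo0 σ :=
    fun s => exists_sign_perm (stab_mem s.2)
  choose cs σs hs using hex
  have hcomm : ∀ s, σs s * el P2 = el P2 * σs s ∧ cs s + wordPerm (σs s) (cd b0m) =
      cd b0m + wordPerm (el P2) (cs s) := fun s => comm_sp (by
    rw [← hs]
    exact Subgroup.mem_centralizer_singleton_iff.1 (s : C).2)
  let r : M24 → golayCode := fun σ => if h : ∃ s, σs s = σ then cs h.choose else 0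
  have hr : ∀ s, ∃ s', σs s' = σs s ∧ r (σs s) = cs s' := by
    intro s
    have h : ∃ s', σs s' = σs s := ⟨s, rfl⟩
    exact ⟨h.choose, h.choose_spec, dif_pos h⟩
  have hfix : ∀ s, wordPerm (el P2) (cs s + r (σs s)) = cs s + r (σs s) := by
    intro s
    obtain ⟨s', h1, h2⟩ := hr s
    rw [h2]
    have e1 := (hcomm s).2
    have e2 := (hcomm s').2
    rw [h1] at e2
    have e3 : wordPerm (el P2) (cs s + cs s') = wordPerm (el P2) (cs s) + wordPerm (el P2) (cs s') := rfl
    have two : ∀ d : golayCode, d + d = 0 := fun d => by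
      apply Subtype.ext
      funext i
      exact CharTwo.add_self_eq_zero _
    have e4 : wordPerm (el P2) (cs s) = cd b0m + (cs s + wordPerm (σs s) (cd b0m)) := by
      rw [e1, ← add_assoc, two, zero_add]
    have e5 : wordPerm (el P2) (cs s') = cd b0m + (cs s' + wordPerm (σs s) (cd b0m)) := by
      rw [e2, ← add_assoc, two, zero_add]
    rw [e3, e4, e5]
    calc cd b0m + (cs s + wordPerm (σs s) (cd b0m)) + (cd b0m + (cs s' + wordPerm (σs s) (cd b0m)))
        = (cd b0m + cd b0m) + (wordPerm (σs s) (cd b0m) + wordPerm (σs s) (cd b0m)) + (cs s + cs s') := by abel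
      _ = cs s + cs s' := by rw [two, two, zero_add, zero_add]
  let F : MulAction.stabilizer C x0 → (Subgroup.centralizer ({el P2} : Set M24)) ×
      {d : golayCode // wordPerm (el P2) d = d} := fun s =>
    (⟨σs s, Subgroup.mem_centralizer_singleton_iff.2 (hcomm s).1⟩, ⟨cs s + r (σs s), hfix s⟩)
  have hF : Function.Injective F := by
    intro s t hst
    have h1 : σs s = σs t := congrArg (fun p => (p.1 : M24)) hst
    have h2 : cs s + r (σs s) = cs t + r (σs t) := congrArg (fun p => (p.2 : golayCode)) hst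
    rw [h1] at h2
    have h3 : cs s = cs t := add_right_cancel h2
    apply Subtype.ext
    apply Subtype.ext
    rw [hs s, hs t, h1, h3]
  have h1 := Nat.card_le_card_of_injective F hF
  rw [Nat.card_prod] at h1
  refine h1.trans (Nat.mul_le_mul ?_ card_fix)
  exact (Cfsg.Agent.KFacts.M24Two.Orders.card_centralizer_w).le

/-- **`|C(b₀)| ≤ 2012774400`** -/
theorem card_cent : Nat.card (Subgroup.centralizer ({b0} : Set Co0)) ≤ 2012774400 := by
  have h1 := (MulAction.stabilizer C x0).card_mul_index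
  rw [MulAction.index_stabilizer] at h1
  rw [← h1]
  calc Nat.card (MulAction.stabilizer C x0) * (MulAction.orbit C x0).ncard ≤ (7680 * 64) * 4095 :=
        Nat.mul_le_mul card_stab orbit_le
    _ = 2012774400 := by norm_num

end Cfsg.Agent.KFacts.Co1D4.Order

end

-- merged: Cfsg.Agent.KFacts.Co1D4.CentAbs
section

/-!
# Centralisers in a double cover (helper927, text of helper249)

`f : G → Q` onto with kernel `{1, z}`, `z` central. Abstract form of the two lemmas used for `Co0 → Co1`.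
-/

set_option autoImplicit false

namespace Cfsg.Agent.KFacts.Co1D4.CentAbs

open Subgroup
open scoped commutatorElement

variable {G Q : Type*} [Group G] [Group Q]

/-- `f` is onto with kernel `{1, z}`, `z` central of order 2. -/
structure Dbl (f : G →* Q) (z : G) : Prop where
  surj : Function.Surjective f
  cen : ∀ g, g * z = z * g
  sq : z * z = 1
  ne : z ≠ 1
  ker : ∀ g, f g = 1 ↔ g = 1 ∨ g = z

variable {f : G →* Q} {z : G}

theorem Dbl.eq_iff (h : Dbl f z) (a b : G) : f a = f b ↔ a = b ∨ a = b * z := by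
  have h1 : f a = f b ↔ f (b⁻¹ * a) = 1 := by
    rw [map_mul, map_inv, inv_mul_eq_one, eq_comm]
  rw [h1, h.ker, inv_mul_eq_one, inv_mul_eq_iff_eq_mul, eq_comm]

theorem Dbl.map_z (h : Dbl f z) : f z = 1 := (h.ker z).2 (Or.inr rfl)

theorem Dbl.comm_cases (h : Dbl f z) {a b : G} (hab : f a * f b = f b * f a) :
    a * b = b * a ∨ a * b = b * a * z := by
  rw [← map_mul, ← map_mul] at hab
  exact (h.eq_iff _ _).1 hab

theorem card_cent_le [Finite G] (h : Dbl f z) (k : G) :
    Nat.card (centralizer ({f k} : Set Q)) ≤ Nat.card (centralizer ({k} : Set G)) := by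
  classical
  have hQ : Finite Q := Finite.of_surjective f h.surj
  obtain ⟨s, hs⟩ := h.surj.hasRightInverse
  have hmem : ∀ c : centralizer ({f k} : Set Q), (c : Q) * f k = f k * c := fun c =>
    mem_centralizer_singleton_iff.1 c.2
  have hcase : ∀ c : centralizer ({f k} : Set Q), s c * k = k * s c ∨ s c * k = k * s c * z := by
    intro c
    apply h.comm_cases
    rw [hs]
    exact hmem c
  by_cases hu : ∃ u : G, u * k = k * u * z
  · obtain ⟨u, hu⟩ := hu
    let zz : Bool → G := fun b => cond b z 1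
    have zcomm : ∀ b g, zz b * g = g * zz b := by
      intro b g
      cases b
      · simp [zz]
      · exact (h.cen g).symm
    have zinj : ∀ b b', zz b = zz b' → b = b' := by
      intro b b' hb
      cases b <;> cases b'
      · rfl
      · exact absurd hb.symm h.ne
      · exact absurd hb h.ne
      · rfl
    have fz : ∀ b, f (zz b) = 1 := by
      intro b
      cases b
      · exact map_one f
      · exact h.map_z
    have hinv : u⁻¹ * (k * z) = k * u⁻¹ := by
      rw [inv_mul_eq_iff_eq_mul, ← mul_assoc]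
      have e : u * k * u⁻¹ = k * z := by
        rw [hu, mul_assoc k u z, h.cen u]
        group
      rw [e]
    let F : centralizer ({f k} : Set Q) × Bool → centralizer ({k} : Set G) × Bool := fun p =>
      if hp : s p.1 * k = k * s p.1 then
        (⟨s p.1 * zz p.2, mem_centralizer_singleton_iff.2 (by rw [mul_assoc, zcomm, ← mul_assoc, hp, mul_assoc])⟩,
          false)
      else (⟨u⁻¹ * s p.1 * zz p.2, mem_centralizer_singleton_iff.2 (by
          have h1 := (hcase p.1).resolve_left hp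
          rw [mul_assoc _ (zz p.2), zcomm, ← mul_assoc, ← mul_assoc, mul_assoc u⁻¹, h1, mul_assoc k,
            h.cen (s _), ← mul_assoc k, ← mul_assoc u⁻¹, hinv, ← mul_assoc k])⟩, true)
    have hF : Function.Injective F := by
      rintro ⟨c, b⟩ ⟨c', b'⟩ hcc
      by_cases hc : s c * k = k * s c <;> by_cases hc' : s c' * k = k * s c'
      · simp only [F, dif_pos hc, dif_pos hc'] at hcc
        have h1 : s c * zz b = s c' * zz b' := congrArg (fun q => (q.1 : G)) hcc
        have h2 := congrArg f h1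
        rw [map_mul, map_mul, fz, fz, mul_one, mul_one, hs, hs] at h2
        have h3 : c = c' := Subtype.ext h2
        subst h3
        rw [zinj b b' (mul_left_cancel h1)]
      · simp only [F, dif_pos hc, dif_neg hc'] at hcc
        exact absurd (congrArg Prod.snd hcc) (by simp)
      · simp only [F, dif_neg hc, dif_pos hc'] at hcc
        exact absurd (congrArg Prod.snd hcc) (by simp)
      · simp only [F, dif_neg hc, dif_neg hc'] at hcc
        have h1 : u⁻¹ * s c * zz b = u⁻¹ * s c' * zz b' := congrArg (fun q => (q.1 : G)) hcc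
        rw [mul_assoc, mul_assoc] at h1
        have h1' := mul_left_cancel h1
        have h2 := congrArg f h1'
        rw [map_mul, map_mul, fz, fz, mul_one, mul_one, hs, hs] at h2
        have h3 : c = c' := Subtype.ext h2
        subst h3
        rw [zinj b b' (mul_left_cancel h1')]
    have h1 := Nat.card_le_card_of_injective F hF
    rw [Nat.card_prod, Nat.card_prod] at h1
    exact Nat.le_of_mul_le_mul_right h1 Nat.card_pos
  · refine Nat.card_le_card_of_injective
      (fun c => (⟨s c, mem_centralizer_singleton_iff.2 ((hcase c).resolve_right fun h1 => hu ⟨_, h1⟩)⟩ :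
        centralizer ({k} : Set G))) ?_
    intro c c' hcc
    have h1 : s c = s c' := congrArg (fun q : centralizer ({k} : Set G) => (q : G)) hcc
    apply Subtype.ext
    rw [← hs c, ← hs c', h1]

theorem Dbl.comm_left (h : Dbl f z) (p q : G) : p * z * q * (p * z)⁻¹ * q⁻¹ = p * q * p⁻¹ * q⁻¹ := by
  have h1 : p * z * q * (p * z)⁻¹ * q⁻¹ = p * (z * q) * z⁻¹ * p⁻¹ * q⁻¹ := by group
  rw [h1, ← h.cen q]
  group

theorem Dbl.comm_right (h : Dbl f z) (p q : G) : p * (q * z) * p⁻¹ * (q * z)⁻¹ = p * q * p⁻¹ * q⁻¹ := by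
  have h1 : p * (q * z) * p⁻¹ * (q * z)⁻¹ = p * q * (z * p⁻¹) * z⁻¹ * q⁻¹ := by group
  rw [h1, ← h.cen p⁻¹]
  group

/-- If `f c` centralises the perfect group `L`, `c` centralises its preimage. -/
theorem lift_comm (h : Dbl f z) {L : Subgroup Q} (hL : ⁅L, L⁆ = L) {c : G} (hc : ∀ l ∈ L, f c * l = l * f c)
    {m : G} (hm : f m ∈ L) : c * m = m * c := by
  have key : L ≤ (centralizer ({c} : Set G)).map f := by
    rw [← hL]
    rw [commutator_le]
    intro p hp q hq
    obtain ⟨p, rfl⟩ := h.surj p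
    obtain ⟨q, rfl⟩ := h.surj q
    refine ⟨⁅p, q⁆, ?_, map_commutatorElement f p q⟩
    show ⁅p, q⁆ ∈ centralizer ({c} : Set G)
    rw [mem_centralizer_singleton_iff, commutatorElement_def]
    have hp1 : c * p = p * c ∨ c * p = p * c * z := h.comm_cases (hc _ hp)
    have hq1 : c * q = q * c ∨ c * q = q * c * z := h.comm_cases (hc _ hq)
    -- `c p c⁻¹ = p` or `p z`
    have hp2 : c * p * c⁻¹ = p ∨ c * p * c⁻¹ = p * z := by
      rcases hp1 with h1 | h1
      · left; rw [h1]; group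
      · right; rw [h1, mul_assoc p, h.cen c]; group
    have hq2 : c * q * c⁻¹ = q ∨ c * q * c⁻¹ = q * z := by
      rcases hq1 with h1 | h1
      · left; rw [h1]; group
      · right; rw [h1, mul_assoc q, h.cen c]; group
    have e : c * (p * q * p⁻¹ * q⁻¹) * c⁻¹ =
        (c * p * c⁻¹) * (c * q * c⁻¹) * (c * p * c⁻¹)⁻¹ * (c * q * c⁻¹)⁻¹ := by group
    have e2 : c * (p * q * p⁻¹ * q⁻¹) * c⁻¹ = p * q * p⁻¹ * q⁻¹ := by
      rw [e]
      rcases hp2 with h1 | h1 <;> rcases hq2 with h2 | h2 <;> rw [h1, h2]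
      · exact h.comm_right p q
      · exact h.comm_left p q
      · rw [h.comm_left p (q * z)]
        exact h.comm_right p q
    rw [mul_inv_eq_iff_eq_mul] at e2
    exact e2.symm
  obtain ⟨m', hm', hmm⟩ := key hm
  have h1 : c * m' = m' * c := (mem_centralizer_singleton_iff.1 hm').symm
  rcases (h.eq_iff m m').1 hmm.symm with h2 | h2
  · rw [h2, h1]
  · rw [h2, ← mul_assoc, h1, mul_assoc, h.cen c, ← mul_assoc]

/-- the elements with a lift commuting with `k` -/
theorem core [Finite G] (h : Dbl f z) {k u : G} {L : Subgroup Q} (hk : k * k = z) (hu : k * u = z * (u * k))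
    (hL : ⁅L, L⁆ = L) (hLk : ∀ l ∈ L, l * f k = f k * l) (hLu : ∀ l ∈ L, l * f u = f u * l)
    (hc : ∀ g ∈ L, (∀ l ∈ L, g * l = l * g) → g = 1)
    (hcard : Nat.card (centralizer ({f k} : Set Q)) ≤ 8 * Nat.card L)
    (hle : ∀ a : G, (∀ x, x * k = k * x → x * a = a * x) → a = 1 ∨ a = z ∨ a = k ∨ a = z * k)
    {a : G} (hak : a * k = k * a) (haL : ∀ l ∈ L, f a * l = l * f a) : f a = 1 ∨ f a = f k := by
  classical
  have hQ : Finite Q := Finite.of_surjective f h.surj
  by_contra hcon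
  rw [not_or] at hcon
  obtain ⟨ha1, haw⟩ := hcon
  have zc : ∀ g, z * g = g * z := fun g => (h.cen g).symm
  have hanti : ∀ x : G, k * x = z * (x * k) → x * k ≠ k * x := by
    intro x hx hx2
    rw [hx2] at hx
    have h1 : 1 * (k * x) = z * (k * x) := by rw [one_mul]; exact hx
    exact h.ne (mul_right_cancel h1).symm
  have hww : f k * f k = 1 := by rw [← map_mul, hk, h.map_z]
  have hw1 : f k ≠ 1 := by
    intro h1
    rcases (h.ker k).1 h1 with h2 | h2
    · rw [h2, one_mul] at hk; exact h.ne hk.symm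
    · rw [h2, h.sq] at hk; exact h.ne hk.symm
  have hvw : f u * f k = f k * f u := by
    rw [← map_mul, ← map_mul, hu, map_mul f z, h.map_z, one_mul]
  let D : Subgroup Q := centralizer ({f k} : Set Q) ⊓ centralizer (L : Set Q)
  have memD : ∀ x : Q, x ∈ D ↔ x * f k = f k * x ∧ ∀ l ∈ L, l * x = x * l := by
    intro x
    rw [Subgroup.mem_inf, mem_centralizer_singleton_iff, mem_centralizer_iff]
    rfl
  let E : Subgroup Q := D ⊓ (centralizer ({k} : Set G)).map f
  have hvD : f u ∈ D := (memD _).2 ⟨hvw, hLu⟩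
  have hvE : f u ∉ E := by
    rintro ⟨_, x, hx, hxu⟩
    have hx1 : x * k = k * x := mem_centralizer_singleton_iff.1 hx
    rcases (h.eq_iff u x).1 hxu.symm with h2 | h2
    · rw [← h2] at hx1
      exact hanti u hu hx1
    · apply hanti u hu
      rw [h2, mul_assoc, zc, ← mul_assoc, hx1, mul_assoc]
  have hEw : f k ∈ E := ⟨(memD _).2 ⟨rfl, hLk⟩, k, mem_centralizer_singleton_iff.2 rfl, rfl⟩
  have hEa : f a ∈ E := ⟨(memD _).2 ⟨by rw [← map_mul, ← map_mul, hak], fun l hl => (haL l hl).symm⟩,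
    a, mem_centralizer_singleton_iff.2 hak, rfl⟩
  -- `2 |E| ≤ |D|`
  have hED : Nat.card E * 2 ≤ Nat.card D := by
    have hinj : Function.Injective (fun p : E × Bool =>
        (⟨(p.1 : Q) * cond p.2 (f u) 1, D.mul_mem p.1.2.1 (by cases p.2; exacts [D.one_mem, hvD])⟩ : D)) := by
      rintro ⟨e, b⟩ ⟨e', b'⟩ hee
      have h1 : (e : Q) * cond b (f u) 1 = (e' : Q) * cond b' (f u) 1 := congrArg (fun q : D => (q : Q)) hee
      cases b <;> cases b'
      · have h2 : (e : Q) = e' := by simpa using h1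
        rw [Subtype.ext h2]
      · exfalso
        apply hvE
        have h2 : f u = (e' : Q)⁻¹ * e := by
          rw [eq_inv_mul_iff_mul_eq]
          simpa only [_root_.cond_true, _root_.cond_false, _root_.mul_one] using h1.symm
        rw [h2]
        exact E.mul_mem (E.inv_mem e'.2) e.2
      · exfalso
        apply hvE
        have h2 : f u = (e : Q)⁻¹ * e' := by
          rw [eq_inv_mul_iff_mul_eq]
          simpa using h1
        rw [h2]
        exact E.mul_mem (E.inv_mem e.2) e'.2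
      · have h2 : (e : Q) = e' := mul_right_cancel h1
        rw [Subtype.ext h2]
    have h1 := Nat.card_le_card_of_injective _ hinj
    rwa [Nat.card_prod, show Nat.card Bool = 2 by simp] at h1
  -- `D × L → C(w)` is injective
  let Ψ : D × L → centralizer ({f k} : Set Q) := fun p =>
    ⟨p.1 * p.2, (centralizer ({f k} : Set Q)).mul_mem p.1.2.1 (mem_centralizer_singleton_iff.2 (hLk _ p.2.2))⟩
  have hΨ : Function.Injective Ψ := by
    rintro ⟨d, l⟩ ⟨d', l'⟩ hdl
    have h1 : (d : Q) * l = d' * l' := congrArg (fun q : centralizer ({f k} : Set Q) => (q : Q)) hdl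
    have h2 : (d' : Q)⁻¹ * d = l' * (l : Q)⁻¹ := by
      rw [inv_mul_eq_iff_eq_mul, ← mul_assoc, eq_mul_inv_iff_mul_eq]
      exact h1
    have h3 : (d' : Q)⁻¹ * d ∈ D := D.mul_mem (D.inv_mem d'.2) d.2
    have h4 : (d' : Q)⁻¹ * d ∈ L := by rw [h2]; exact L.mul_mem l'.2 (L.inv_mem l.2)
    have h5 := hc _ h4 (fun l hl => (((memD _).1 h3).2 l hl).symm)
    have h6 : (d : Q) = d' := by
      rw [inv_mul_eq_one] at h5
      exact h5.symm
    have h7 : (l : Q) = l' := by
      rw [h6] at h1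
      exact mul_left_cancel h1
    rw [Prod.mk.injEq]
    exact ⟨Subtype.ext h6, Subtype.ext h7⟩
  have hcDL := Nat.card_le_card_of_injective Ψ hΨ
  rw [Nat.card_prod] at hcDL
  have hLpos : 0 < Nat.card L := Nat.card_pos
  have hD8 : Nat.card D ≤ 8 := Nat.le_of_mul_le_mul_right (hcDL.trans hcard) hLpos
  have hE4 : Nat.card E ≤ 4 := by omega
  -- the four elements
  have hwa1 : f k * f a ≠ 1 := by
    intro h1
    apply haw
    have h2 : f k * f a = f k * f k := by rw [h1, hww]
    exact mul_left_cancel h2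
  have hwa2 : f k * f a ≠ f k := fun h1 => ha1 (mul_left_cancel (h1.trans (mul_one _).symm))
  have hwa3 : f k * f a ≠ f a := fun h1 => hw1 (mul_right_cancel (h1.trans (one_mul _).symm))
  have hEall : ∀ e ∈ E, e = 1 ∨ e = f k ∨ e = f a ∨ e = f k * f a := by
    intro e he
    by_contra hne
    simp only [not_or] at hne
    obtain ⟨n1, n2, n3, n4⟩ := hne
    let S : Finset Q := {1, f k, f a, f k * f a, e}
    have hS : S.card = 5 := by
      simp only [S]
      rw [Finset.card_insert_of_notMem, Finset.card_insert_of_notMem, Finset.card_insert_of_notMem,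
        Finset.card_insert_of_notMem, Finset.card_singleton]
      · simp only [Finset.mem_insert, Finset.mem_singleton, not_or]; exact Ne.symm n4
      · simp only [Finset.mem_insert, Finset.mem_singleton, not_or]; exact ⟨Ne.symm hwa3, Ne.symm n3⟩
      · simp only [Finset.mem_insert, Finset.mem_singleton, not_or]; exact ⟨Ne.symm haw, Ne.symm hwa2, Ne.symm n2⟩
      · simp only [Finset.mem_insert, Finset.mem_singleton, not_or]; exact ⟨Ne.symm hw1, Ne.symm ha1, Ne.symm hwa1, Ne.symm n1⟩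
    have hsub : ∀ x : S, (x : Q) ∈ E := by
      rintro ⟨x, hx⟩
      simp only [S, Finset.mem_insert, Finset.mem_singleton] at hx
      rcases hx with rfl | rfl | rfl | rfl | rfl
      · exact E.one_mem
      · exact hEw
      · exact hEa
      · exact E.mul_mem hEw hEa
      · exact he
    have h1 : Nat.card S ≤ Nat.card E := Nat.card_le_card_of_injective (fun x : S => (⟨x, hsub x⟩ : E))
      (fun x y hxy => Subtype.ext (congrArg (fun q : E => (q : Q)) hxy))
    rw [Nat.card_eq_fintype_card, Fintype.card_coe, hS] at h1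
    omega
  have hE4' : 4 ≤ Nat.card E := by
    let S : Finset Q := {1, f k, f a, f k * f a}
    have hS : S.card = 4 := by
      simp only [S]
      rw [Finset.card_insert_of_notMem, Finset.card_insert_of_notMem, Finset.card_insert_of_notMem,
        Finset.card_singleton]
      · simp only [Finset.mem_insert, Finset.mem_singleton, not_or]; exact Ne.symm hwa3
      · simp only [Finset.mem_insert, Finset.mem_singleton, not_or]; exact ⟨Ne.symm haw, Ne.symm hwa2⟩
      · simp only [Finset.mem_insert, Finset.mem_singleton, not_or]; exact ⟨Ne.symm hw1, Ne.symm ha1, Ne.symm hwa1⟩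
    have hsub : ∀ x : S, (x : Q) ∈ E := by
      rintro ⟨x, hx⟩
      simp only [S, Finset.mem_insert, Finset.mem_singleton] at hx
      rcases hx with rfl | rfl | rfl | rfl
      · exact E.one_mem
      · exact hEw
      · exact hEa
      · exact E.mul_mem hEw hEa
    have h1 : Nat.card S ≤ Nat.card E := Nat.card_le_card_of_injective (fun x : S => (⟨x, hsub x⟩ : E))
      (fun x y hxy => Subtype.ext (congrArg (fun q : E => (q : Q)) hxy))
    rwa [Nat.card_eq_fintype_card, Fintype.card_coe, hS] at h1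
  have hD8' : Nat.card D = 8 := by omega
  have hΨs : Function.Surjective Ψ := by
    have h1 : Nat.card (D × L) = Nat.card (centralizer ({f k} : Set Q)) := by
      apply le_antisymm
      · rw [Nat.card_prod]; exact hcDL
      · rw [Nat.card_prod, hD8']; exact hcard
    exact ((Nat.bijective_iff_injective_and_card Ψ).2 ⟨hΨ, h1⟩).2
  -- every element commuting with `k` commutes with `a`
  have hLe : ∀ y : G, y * k = k * y → y * a = a * y := by
    intro y hy
    obtain ⟨⟨d, l⟩, hdl⟩ := hΨs ⟨f y, mem_centralizer_singleton_iff.2 (by rw [← map_mul, ← map_mul, hy])⟩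
    have h1 : (d : Q) * l = f y := congrArg (fun q : centralizer ({f k} : Set Q) => (q : Q)) hdl
    obtain ⟨l', hl'⟩ := h.surj (l : Q)
    have hl'L : f l' ∈ L := by rw [hl']; exact l.2
    have e1 : k * l' = l' * k := lift_comm h hL (fun l hl => (hLk l hl).symm) hl'L
    have e2 : a * l' = l' * a := lift_comm h hL haL hl'L
    -- the lift `d'` of `d`
    obtain ⟨d', hd'⟩ : ∃ d', d' = y * l'⁻¹ := ⟨_, rfl⟩
    have hyd : y = d' * l' := by rw [hd', inv_mul_cancel_right]
    have hfd : f d' = d := by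
      rw [hd', map_mul, map_inv, hl', ← h1, mul_inv_cancel_right]
    have e3 : d' * k = k * d' := by
      have h2 : d' * l' * k = k * (d' * l') := by rw [← hyd]; exact hy
      rw [mul_assoc, ← e1, ← mul_assoc, ← mul_assoc] at h2
      exact mul_right_cancel h2
    have hdE : (d : Q) ∈ E := ⟨d.2, d', mem_centralizer_singleton_iff.2 e3, hfd⟩
    have e4 : d' * a = a * d' := by
      have hz : ∀ x : G, x * a = a * x → x * z * a = a * (x * z) := by
        intro x hx
        rw [mul_assoc, zc, ← mul_assoc, hx, mul_assoc]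
      rcases hEall _ hdE with h2 | h2 | h2 | h2
      · rw [← hfd, ← map_one f] at h2
        rcases (h.eq_iff _ _).1 h2 with h3 | h3 <;> rw [h3]
        · rw [one_mul, mul_one]
        · exact hz 1 (by rw [one_mul, mul_one])
      · rw [← hfd] at h2
        rcases (h.eq_iff _ _).1 h2 with h3 | h3 <;> rw [h3]
        · exact hak.symm
        · exact hz k hak.symm
      · rw [← hfd] at h2
        rcases (h.eq_iff _ _).1 h2 with h3 | h3 <;> rw [h3]
        exact hz a rfl
      · rw [← hfd, ← map_mul] at h2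
        have h4 : k * a * a = a * (k * a) := by rw [← mul_assoc, hak]
        rcases (h.eq_iff _ _).1 h2 with h3 | h3 <;> rw [h3]
        · exact h4
        · exact hz _ h4
    rw [hyd, mul_assoc, ← e2, ← mul_assoc, e4, mul_assoc]
  rcases hle a hLe with h1 | h1 | h1 | h1
  · exact ha1 (by rw [h1, map_one])
  · exact ha1 (by rw [h1, h.map_z])
  · exact haw (by rw [h1])
  · exact haw (by rw [h1, map_mul, h.map_z, one_mul])

/-- **The centraliser of `L` in `C(f k)`** -/
theorem cent_abs [Finite G] (h : Dbl f z) {k u : G} {L : Subgroup Q} (hk : k * k = z) (hu : k * u = z * (u * k))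
    (hL : ⁅L, L⁆ = L) (hLk : ∀ l ∈ L, l * f k = f k * l) (hLu : ∀ l ∈ L, l * f u = f u * l)
    (hc : ∀ g ∈ L, (∀ l ∈ L, g * l = l * g) → g = 1)
    (hcard : Nat.card (centralizer ({f k} : Set Q)) ≤ 8 * Nat.card L)
    (hle : ∀ a : G, (∀ x, x * k = k * x → x * a = a * x) → a = 1 ∨ a = z ∨ a = k ∨ a = z * k) :
    ∀ g : Q, g * f k = f k * g → (∀ l ∈ L, g * l = l * g) → g = 1 ∨ g = f k ∨ g = f u ∨ g = f k * f u := by
  intro g hgk hgL
  obtain ⟨g', rfl⟩ := h.surj g
  rcases h.comm_cases hgk with h1 | h1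
  · rcases core h hk hu hL hLk hLu hc hcard hle h1 hgL with h2 | h2
    · exact Or.inl h2
    · exact Or.inr (Or.inl h2)
  · -- `g' u⁻¹` commutes with `k`
    have zc : ∀ g, z * g = g * z := fun g => (h.cen g).symm
    have hzi : z⁻¹ = z := by rw [inv_eq_iff_mul_eq_one]; exact h.sq
    have e0 : k * u⁻¹ = u⁻¹ * k * z := by
      have e1 : u⁻¹ * (k * u) = z * k := by
        rw [hu, zc, ← mul_assoc, ← mul_assoc, inv_mul_cancel, one_mul, zc]
      have e2 : u⁻¹ * k = z * k * u⁻¹ := by rw [← e1]; group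
      rw [e2, zc (k), mul_assoc (k * z), zc u⁻¹ |>.symm, mul_assoc k, ← mul_assoc z z, h.sq, one_mul]
    have h2 : g' * u⁻¹ * k = k * (g' * u⁻¹) := by
      have e3 : u⁻¹ * k = k * u⁻¹ * z := by
        rw [e0, mul_assoc, h.sq, mul_one]
      rw [mul_assoc, e3, ← mul_assoc, ← mul_assoc, h1, mul_assoc (k * g'), zc u⁻¹, mul_assoc (k * g'),
        mul_assoc u⁻¹, h.sq, mul_one, mul_assoc]
    have h3 : ∀ l ∈ L, f (g' * u⁻¹) * l = l * f (g' * u⁻¹) := by
      intro l hl
      have h4 : (f u)⁻¹ * l = l * (f u)⁻¹ := by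
        rw [inv_mul_eq_iff_eq_mul, ← mul_assoc, ← hLu l hl, mul_assoc, mul_inv_cancel, mul_one]
      rw [map_mul, map_inv, mul_assoc, h4, ← mul_assoc, hgL l hl, mul_assoc]
    rcases core h hk hu hL hLk hLu hc hcard hle h2 h3 with h4 | h4
    · right; right; left
      rw [map_mul, map_inv, mul_inv_eq_one] at h4
      exact h4
    · right; right; right
      rw [map_mul, map_inv, mul_inv_eq_iff_eq_mul] at h4
      exact h4

end Cfsg.Agent.KFacts.Co1D4.CentAbs

end

-- merged: Cfsg.Agent.KFacts.Co1D4.Cent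
section

/-!
# The centraliser of a 2B involution of `Co1` (helper927, text of helper249)
-/

set_option autoImplicit false

namespace Cfsg.Agent.KFacts.Co1D4.Cent

open Cfsg Cfsg.Agent.SporadicA.GolayBase Cfsg.Agent.SporadicA.Co0Mono
open Cfsg.Agent.SporadicA.Co1Simple (allOne)
open Cfsg.Agent.CoOneType.InvMain (b0 b0_mul_self conj_b0_of_sq_neg)
open Cfsg.Agent.CoOneType.SignFacts (sign_allOne_comm)
open Cfsg.Agent.CoOneType.ClosingFacts (mk mk_mul mk_eq_one)
open Cfsg.Agent.KFacts.Co1D4.CentAbs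
open Subgroup

/-- `Co0 → Co1` -/
noncomputable def pr : Co0 →* Spor.Co1 := QuotientGroup.mk' (Subgroup.center Co0)

theorem allOne_ne_one : signCo0 allOne ≠ 1 := by
  intro h
  rw [← signCo0_zero] at h
  have h2 : signCo0 allOne * permCo0 1 = signCo0 0 * permCo0 1 := by rw [h]
  have h3 := congrArg (fun c : golayCode => ((c : GolayPt → ZMod 2) none :)) (CoOneType.InvMain.sp_inj h2).1
  exact absurd h3 (by decide)

theorem dbl : Dbl pr (signCo0 allOne) where
  surj := QuotientGroup.mk'_surjective _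
  cen := sign_allOne_comm
  sq := signCo0_mul_self _
  ne := allOne_ne_one
  ker := _root_.Cfsg.Agent.CoOneType.ClosingFacts.mk_eq_one

theorem finite_co0 : Finite Co0 := Cfsg.Agent.CoOneType.FrameFix.finite_co0

theorem card_cent0 {k : Co0} (hk : k * k = signCo0 allOne) :
    Nat.card (Subgroup.centralizer ({k} : Set Co0)) ≤ 2012774400 := by
  have hfin := finite_co0
  obtain ⟨g, hg⟩ := conj_b0_of_sq_neg k hk
  refine le_trans ?_ Order.card_cent
  refine Nat.card_le_card_of_injective (fun x : Subgroup.centralizer ({k} : Set Co0) =>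
    (⟨g * x * g⁻¹, mem_centralizer_singleton_iff.2 ?_⟩ : Subgroup.centralizer ({b0} : Set Co0))) ?_
  · have h1 : (x : Co0) * k = k * x := mem_centralizer_singleton_iff.1 x.2
    rw [← hg]
    have e1 : g * (x : Co0) * g⁻¹ * (g * k * g⁻¹) = g * (x * k) * g⁻¹ := by group
    have e2 : (g * k * g⁻¹) * (g * (x : Co0) * g⁻¹) = g * (k * x) * g⁻¹ := by group
    rw [e1, e2, h1]
  · intro x y hxy
    have h1 : g * (x : Co0) * g⁻¹ = g * (y : Co0) * g⁻¹ :=
      congrArg (fun q : Subgroup.centralizer ({b0} : Set Co0) => (q : Co0)) hxy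
    exact Subtype.ext (mul_left_cancel (mul_right_cancel h1))

/-- **`|C(w)| ≤ 2012774400`** for `w = pr k`, `k² = -1`. -/
theorem card_cent1 {k : Co0} (hk : k * k = signCo0 allOne) :
    Nat.card (Subgroup.centralizer ({_root_.Cfsg.Agent.CoOneType.ClosingFacts.mk k} : Set Spor.Co1)) ≤ 2012774400 := by
  have hfin := finite_co0
  exact (card_cent_le dbl k).trans (card_cent0 hk)

/-- **`C(w) ∩ C(L) = {1, w, v, w v}`** -/
theorem cent_eq {k u : Co0} {L : Subgroup Spor.Co1} (hk : k * k = signCo0 allOne)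
    (hu : k * u = signCo0 allOne * (u * k)) (hL : ⁅L, L⁆ = L) (hLk : ∀ l ∈ L, l * _root_.Cfsg.Agent.CoOneType.ClosingFacts.mk k = _root_.Cfsg.Agent.CoOneType.ClosingFacts.mk k * l)
    (hLu : ∀ l ∈ L, l * _root_.Cfsg.Agent.CoOneType.ClosingFacts.mk u = _root_.Cfsg.Agent.CoOneType.ClosingFacts.mk u * l) (hc : ∀ g ∈ L, (∀ l ∈ L, g * l = l * g) → g = 1)
    (hcard : Nat.card (Subgroup.centralizer ({_root_.Cfsg.Agent.CoOneType.ClosingFacts.mk k} : Set Spor.Co1)) ≤ 8 * Nat.card L) :
    ∀ g : Spor.Co1, g * _root_.Cfsg.Agent.CoOneType.ClosingFacts.mk k = _root_.Cfsg.Agent.CoOneType.ClosingFacts.mk k * g → (∀ l ∈ L, g * l = l * g) →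
      g = 1 ∨ g = _root_.Cfsg.Agent.CoOneType.ClosingFacts.mk k ∨ g = _root_.Cfsg.Agent.CoOneType.ClosingFacts.mk u ∨ g = _root_.Cfsg.Agent.CoOneType.ClosingFacts.mk k * _root_.Cfsg.Agent.CoOneType.ClosingFacts.mk u := by
  have hfin := finite_co0
  refine cent_abs dbl hk hu hL hLk hLu hc hcard fun a ha => ?_
  refine Cfsg.Agent.OddHalf.D4.Spor.TwoCo1.eq_of_le ?_ ?_ (Or.inr hk) fun x hx => ha x hx
  · rintro rfl
    rw [one_mul] at hk
    exact allOne_ne_one hk.symm
  · intro h
    have h1 : k = signCo0 allOne := h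
    rw [h1, signCo0_mul_self] at hk
    exact allOne_ne_one hk.symm

end Cfsg.Agent.KFacts.Co1D4.Cent

end

-- merged: Cfsg.Agent.KFacts.Co1D4.DodBad
section

/-!
# The involutions of class 2C of `Co₁`: `Bad` is impossible
-/

set_option autoImplicit false
set_option Elab.async false
open Cfsg
open scoped Pointwise

namespace Cfsg.Agent.KFacts.Co1D4.DodBad

open Cfsg.Agent.SporadicA.GolayBase Cfsg.Agent.SporadicA.GolayPerm
open Cfsg.Agent.SporadicStructure.M24El
open Cfsg.Agent.SporadicA.Co0Mono Cfsg.Agent.SporadicA.Co1Simple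
open Cfsg.Agent.CoOneType.SignFacts (sup mem_sup notMem_sup wt sup_mem wt_cases wt_add_allOne
  sign_allOne_comm mem_N_of_conj_dodecad)
open Cfsg.Agent.CoOneType.ClosingFacts (mk mk_mul mk_inv exists_mk mk_eq_one mk_eq mk_add_allOne isConj_dodecad
  eq_zero_of_wt eq_allOne_of_wt)
open Cfsg.Agent.CoOneType.CoOneE (wt_add sup_wordPerm)
open Cfsg.Agent.KFacts.Co1.OctGen (sign_inj)
open Cfsg.Agent.Co2Type.Mono
open Cfsg.Agent.OddHalf.D4.Spor (Bad Cen)
open DodBal

/-- The standard dodecad. -/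
def dm : ℕ := 13553934

/-- Three permutations fixing it. -/
def Pl : List ℕ :=
  [958843626937166754525970162888333895, 518175122585017980860713130246846740, 105404610188565443420701032041434592]

private noncomputable def _root_.Cfsg.Agent.GolayF.f1 : {f // @Cfsg.Agent.SporadicStructure.M24El.ok = f} :=
  ⟨_, by delta Cfsg.Agent.SporadicStructure.M24El.ok; rewrite [Cfsg.Agent.GolayF.isPerm_eq, Cfsg.Agent.GolayF.isAut_eq]; exact rfl⟩

theorem ok_Pl : ∀ P ∈ Pl, (ok P && Nat.beq (pimg P dm) dm) = true := by (rewrite [Cfsg.Agent.GolayF.f1.2, Cfsg.Agent.GolayF.pimg_eq]; decide +kernel)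

theorem ok_dm : isCode dm = true ∧ popcount dm = 12 := by (rewrite [Cfsg.Agent.GolayF.isCode_eq, Cfsg.Agent.GolayF.popcount_eq]; decide +kernel)

/-- the test of a word -/
def test (m : ℕ) : Bool :=
  !(Nat.beq (popcount m) 12) || (!(Nat.beq (popcount (m &&& dm)) 6) ||
    Pl.any fun P => Nat.beq (popcount (m ^^^ pimg P m)) 8 || Nat.beq (popcount (m ^^^ pimg P m)) 16)

private noncomputable def _root_.Cfsg.Agent.GolayF.f2 : {f // @Cfsg.Agent.KFacts.Co1D4.DodBad.test = f} :=
  ⟨_, by delta Cfsg.Agent.KFacts.Co1D4.DodBad.test; rewrite [Cfsg.Agent.GolayF.pimg_eq, Cfsg.Agent.GolayF.popcount_eq]; exact rfl⟩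

theorem cert : allR 12 0 (fun i => test (enc i)) = true := by (rewrite [Cfsg.Agent.GolayF.f2.2, Cfsg.Agent.GolayF.enc_eq]; decide +kernel)

/-- octads meeting the dodecad in four points -/
def Ol : List ℕ := [1302533, 16056344, 8937586, 864389, 8521420, 2372388]

theorem ok_Ol : ∀ m ∈ Ol, isCode m = true ∧ popcount m = 8 ∧ popcount (m &&& dm) = 4 := by (rewrite [Cfsg.Agent.GolayF.isCode_eq, Cfsg.Agent.GolayF.popcount_eq]; decide +kernel)

theorem sep_Ol : ∀ a < 24, ∀ b < 24, a = b ∨ ∃ m ∈ Ol, Nat.testBit m a ≠ Nat.testBit m b := by decide +kernel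

/-- a permutation fixing the octads of `Ol` is trivial -/
theorem perm_eq_one {σ : M24} (h : ∀ m ∈ Ol, wordPerm σ (cd m) = cd m) : σ = 1 := by
  apply Subtype.ext
  apply Equiv.ext
  intro p
  have h0 : ∀ m ∈ Ol, (σ • p ∈ sup (cd m) ↔ p ∈ sup (cd m)) := by
    intro m hm
    have h2 := sup_wordPerm σ (cd m)
    rw [h m hm] at h2
    conv_lhs => rw [h2]
    exact Finset.smul_mem_smul_finset_iff σ
  have h1 : idx (σ • p) = idx p := by
    rcases sep_Ol (idx (σ • p)) (idx_lt _) (idx p) (idx_lt _) with h2 | ⟨m, hm, h2⟩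
    · exact h2
    · exfalso
      have h3 := h0 m hm
      rw [sup_cd (ok_Ol m hm).1, mem_fin, mem_fin] at h3
      apply h2
      cases h4 : Nat.testBit m (idx (σ • p)) <;> cases h5 : Nat.testBit m (idx p) <;> simp_all
  have h2 := congrArg pt h1
  rw [pt_idx, pt_idx] at h2
  exact h2

theorem wt_wordPerm (σ : M24) (c : golayCode) : wt (wordPerm σ c) = wt c := by
  unfold wt
  rw [sup_wordPerm]
  exact Finset.card_smul_finset σ _

/-- the conjugate of a sign change under a monomial element -/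
theorem conj_sign (a c : golayCode) (σ : M24) :
    signCo0 a * permCo0 σ * signCo0 c * (signCo0 a * permCo0 σ)⁻¹ = signCo0 (wordPerm σ c) := by
  have h2 : signCo0 a * permCo0 σ * signCo0 c * (signCo0 a * permCo0 σ)⁻¹ =
      signCo0 a * (permCo0 σ * signCo0 c * (permCo0 σ)⁻¹) * (signCo0 a)⁻¹ := by group
  rw [h2, perm_mul_sign_mul_inv, signCo0_inv, ← signCo0_add, ← signCo0_add]
  congr 1
  rw [add_comm a, add_assoc, signCo0_add_self a, add_zero]

section

variable {N : Subgroup Spor.Co1}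

/-- **`Bad` is impossible** at the standard dodecad. -/
theorem not_bad_dm (hC : ∀ o : golayCode, wt o = 8 → Cen (_root_.Cfsg.Agent.CoOneType.ClosingFacts.mk (signCo0 o))) : ¬ Bad (_root_.Cfsg.Agent.CoOneType.ClosingFacts.mk (signCo0 (cd dm))) N := by
  intro h
  have hd : wt (cd dm) = 12 := by rw [wt_cd ok_dm.1]; exact ok_dm.2
  set d := cd dm with hddef
  -- the weights of the words in `N`
  have hwt : ∀ c : golayCode, _root_.Cfsg.Agent.CoOneType.ClosingFacts.mk (signCo0 c) ∈ N → wt c ≠ 8 ∧ wt c ≠ 16 := by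
    intro c hc
    have hsq : _root_.Cfsg.Agent.CoOneType.ClosingFacts.mk (signCo0 c) * _root_.Cfsg.Agent.CoOneType.ClosingFacts.mk (signCo0 c) = 1 := by
      rw [← mk_mul, signCo0_mul_self]; rfl
    have hne : wt c ≠ 0 → wt c ≠ 24 → mk (signCo0 c) ≠ 1 := by
      intro h0 h1 h2
      rcases (mk_eq_one _).1 h2 with h3 | h3
      · rw [← signCo0_zero] at h3
        apply h0
        rw [sign_inj h3]
        unfold wt
        rw [CoOneType.CoOneE.sup_zero, Finset.card_empty]
      · have h4 := sign_inj h3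
        have h5 := wt_add_allOne c
        rw [h4, signCo0_add_self] at h5
        have h6 : wt (0 : golayCode) = 0 := by
          unfold wt
          rw [CoOneType.CoOneE.sup_zero, Finset.card_empty]
        rw [h4] at h1
        omega
    constructor
    · intro h8
      exact h.non _ hc hsq (hne (by omega) (by omega)) (hC c h8)
    · intro h16
      refine h.non _ hc hsq (hne (by omega) (by omega)) ?_
      have := wt_add_allOne c
      rw [← mk_add_allOne c]
      exact hC _ (by omega)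
  have hdN : _root_.Cfsg.Agent.CoOneType.ClosingFacts.mk (signCo0 d) ∈ N := h.mem
  -- words commuting with `d`
  have hcomm : ∀ c : golayCode, _root_.Cfsg.Agent.CoOneType.ClosingFacts.mk (signCo0 c) * _root_.Cfsg.Agent.CoOneType.ClosingFacts.mk (signCo0 d) = mk (signCo0 d) * _root_.Cfsg.Agent.CoOneType.ClosingFacts.mk (signCo0 c) := fun c => by
    rw [← mk_mul, ← mk_mul, ← signCo0_add, ← signCo0_add, add_comm]
  -- (2): the words in `N`
  have h2 : ∀ c : golayCode, _root_.Cfsg.Agent.CoOneType.ClosingFacts.mk (signCo0 c) ∈ N → c = 0 ∨ c = allOne ∨ c = d ∨ c = d + allOne := by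
    intro c hc
    have h3 : _root_.Cfsg.Agent.CoOneType.ClosingFacts.mk (signCo0 (c + d)) ∈ N := by
      rw [signCo0_add, mk_mul]
      exact N.mul_mem hc hdN
    have h4 := hwt c hc
    have h5 := hwt _ h3
    have h6 := wt_add c d
    rcases wt_cases c with e | e | e | e | e
    · exact Or.inl (eq_zero_of_wt e)
    · exact absurd e h4.1
    · rcases wt_cases (c + d) with e' | e' | e' | e' | e'
      · right; right; left
        have h7 := eq_zero_of_wt e'
        calc c = c + d + d := by rw [add_assoc, signCo0_add_self, add_zero]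
          _ = d := by rw [h7, zero_add]
      · exact absurd e' h5.1
      · -- the intersection has six points
        exfalso
        obtain ⟨m, hm, rfl⟩ := exists_cd c
        have h7 : popcount (m &&& dm) = 6 := by
          have e2 : (sup (cd m) ∩ sup d).card = popcount (m &&& dm) := by
            rw [hddef, sup_cd hm, sup_cd ok_dm.1, ← fin_and, card_fin]
          omega
        have h8 : popcount m = 12 := by rw [← wt_cd hm]; exact e
        obtain ⟨i, hi, rfl⟩ := isCode_iff_exists.1 hm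
        have h9 := allR_zero_spec cert i (by omega)
        simp only [test, h7, h8] at h9
        have h10 : ∃ P ∈ Pl, popcount (enc i ^^^ pimg P (enc i)) = 8 ∨ popcount (enc i ^^^ pimg P (enc i)) = 16 := by
          have h11 : (Pl.any fun P => Nat.beq (popcount (enc i ^^^ pimg P (enc i))) 8 ||
              Nat.beq (popcount (enc i ^^^ pimg P (enc i))) 16) = true := by
            simpa using h9
          obtain ⟨P, hP, h12⟩ := List.any_eq_true.1 h11
          rw [Bool.or_eq_true, Nat.beq_eq, Nat.beq_eq] at h12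
          exact ⟨P, hP, h12⟩
        obtain ⟨P, hP, h11⟩ := h10
        have h12 := ok_Pl P hP
        rw [Bool.and_eq_true, Nat.beq_eq] at h12
        obtain ⟨hok, hpd⟩ := h12
        have h13 : permCo0 (el P) * signCo0 d * (permCo0 (el P))⁻¹ = signCo0 d := by
          rw [perm_mul_sign_mul_inv, hddef, wordPerm_cd hok ok_dm.1, hpd]
        have h14 : _root_.Cfsg.Agent.CoOneType.ClosingFacts.mk (permCo0 (el P)) * _root_.Cfsg.Agent.CoOneType.ClosingFacts.mk (signCo0 d) = _root_.Cfsg.Agent.CoOneType.ClosingFacts.mk (signCo0 d) * _root_.Cfsg.Agent.CoOneType.ClosingFacts.mk (permCo0 (el P)) := by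
          rw [← mk_mul, ← mk_mul]
          congr 1
          calc permCo0 (el P) * signCo0 d = permCo0 (el P) * signCo0 d * (permCo0 (el P))⁻¹ * permCo0 (el P) := by group
            _ = signCo0 d * permCo0 (el P) := by rw [h13]
        have h15 := h.norm _ h14 _ hc
        have h16 : _root_.Cfsg.Agent.CoOneType.ClosingFacts.mk (permCo0 (el P)) * _root_.Cfsg.Agent.CoOneType.ClosingFacts.mk (signCo0 (cd (enc i))) * (_root_.Cfsg.Agent.CoOneType.ClosingFacts.mk (permCo0 (el P)))⁻¹ =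
            _root_.Cfsg.Agent.CoOneType.ClosingFacts.mk (signCo0 (cd (pimg P (enc i)))) := by
          have : permCo0 (el P) * signCo0 (cd (enc i)) * (permCo0 (el P))⁻¹ = signCo0 (cd (pimg P (enc i))) := by
            rw [perm_mul_sign_mul_inv, wordPerm_cd hok hm]
          rw [← this]; rfl
        rw [h16] at h15
        have hm' : isCode (pimg P (enc i)) = true := by
          have := isCode_pimg hok hm
          exact this
        have h17 : _root_.Cfsg.Agent.CoOneType.ClosingFacts.mk (signCo0 (cd (enc i ^^^ pimg P (enc i)))) ∈ N := by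
          rw [cd_xor hm hm', signCo0_add, mk_mul]
          exact N.mul_mem hc h15
        have h18 := hwt _ h17
        rw [wt_cd (isCode_xor hm hm')] at h18
        omega
      · exact absurd e' h5.2
      · right; right; right
        have h7 := eq_allOne_of_wt e'
        calc c = c + d + d := by rw [add_assoc, signCo0_add_self, add_zero]
          _ = d + allOne := by rw [h7, add_comm]
    · exact absurd e h4.2
    · exact Or.inr (Or.inl (eq_allOne_of_wt e))
  -- (1): every element of `N` is a sign change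
  have h1 : ∀ n ∈ N, n = 1 ∨ n = _root_.Cfsg.Agent.CoOneType.ClosingFacts.mk (signCo0 d) := by
    intro n hn
    obtain ⟨g, rfl⟩ := exists_mk n
    obtain ⟨a, σ, rfl⟩ := exists_sign_perm (mem_N hd (h.le _ hn))
    have hσ : σ = 1 := by
      apply perm_eq_one
      intro m hm
      obtain ⟨hc, h8, h4⟩ := ok_Ol m hm
      have h3 := h.norm _ (hcomm (cd m)) _ (N.inv_mem hn)
      have h5 : _root_.Cfsg.Agent.CoOneType.ClosingFacts.mk (signCo0 a * permCo0 σ) * (_root_.Cfsg.Agent.CoOneType.ClosingFacts.mk (signCo0 (cd m)) * (_root_.Cfsg.Agent.CoOneType.ClosingFacts.mk (signCo0 a * permCo0 σ))⁻¹ *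
          (_root_.Cfsg.Agent.CoOneType.ClosingFacts.mk (signCo0 (cd m)))⁻¹) ∈ N := N.mul_mem hn h3
      have h6 : _root_.Cfsg.Agent.CoOneType.ClosingFacts.mk (signCo0 a * permCo0 σ) * (mk (signCo0 (cd m)) * (_root_.Cfsg.Agent.CoOneType.ClosingFacts.mk (signCo0 a * permCo0 σ))⁻¹ *
          (mk (signCo0 (cd m)))⁻¹) = _root_.Cfsg.Agent.CoOneType.ClosingFacts.mk (signCo0 (wordPerm σ (cd m) + cd m)) := by
        have : signCo0 (wordPerm σ (cd m) + cd m) = signCo0 a * permCo0 σ * (signCo0 (cd m) *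
            (signCo0 a * permCo0 σ)⁻¹ * (signCo0 (cd m))⁻¹) := by
          rw [signCo0_add, ← conj_sign a, signCo0_inv]; group
        rw [this]; rfl
      rw [h6] at h5
      have hw8 : wt (cd m) = 8 := by rw [wt_cd hc]; exact h8
      have h7 := wt_wordPerm σ (cd m)
      have h9 := wt_add (wordPerm σ (cd m)) (cd m)
      have hcancel : wordPerm σ (cd m) = wordPerm σ (cd m) + cd m + cd m := by
        rw [add_assoc, signCo0_add_self, add_zero]
      have hd4 : (sup (cd m) ∩ sup d).card = 4 := by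
        rw [hddef, sup_cd hc, sup_cd ok_dm.1, ← fin_and, card_fin]; exact h4
      have hcd8 : wt (cd m + d) = 12 := by
        have := wt_add (cd m) d
        omega
      rcases h2 _ h5 with e | e | e | e
      · rw [hcancel, e, zero_add]
      · exfalso
        rw [e, h7, hw8] at h9
        have := wt_add_allOne 0
        rw [zero_add] at this
        have hz : wt (0 : golayCode) = 0 := by
          unfold wt
          rw [CoOneType.CoOneE.sup_zero, Finset.card_empty]
        omega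
      · exfalso
        rw [e, add_comm] at hcancel
        rw [hcancel, hcd8] at h7
        omega
      · exfalso
        have h10 : wordPerm σ (cd m) = cd m + d + allOne := by
          rw [hcancel, e, add_comm, ← add_assoc]
        have h11 := wt_add_allOne (cd m + d)
        rw [h10] at h7
        omega
    subst hσ
    rw [map_one, mul_one] at hn ⊢
    rcases h2 a hn with e | e | e | e
    · left; rw [e, signCo0_zero]; rfl
    · left; rw [e]; exact (mk_eq_one _).2 (Or.inr rfl)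
    · right; rw [e]
    · right; rw [e, mk_add_allOne]
  have h3 : Nat.card N ≤ 2 := by
    classical
    have h4 : (N : Set Spor.Co1) ⊆ (({1, _root_.Cfsg.Agent.CoOneType.ClosingFacts.mk (signCo0 d)} : Finset Spor.Co1) : Set Spor.Co1) := by
      intro n hn
      rcases h1 n hn with e | e
      · rw [e]; simp
      · rw [e]; simp
    have h5 := Set.ncard_le_ncard h4 (Finset.finite_toSet _)
    rw [Set.ncard_coe_finset] at h5
    exact h5.trans Finset.card_le_two
  have h4 := Nat.le_of_dvd (Nat.card_pos (α := N)) h.four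
  omega

/-- **`Bad` is impossible** for the involutions of class 2C. -/
theorem not_bad (hC : ∀ o : golayCode, wt o = 8 → Cen (_root_.Cfsg.Agent.CoOneType.ClosingFacts.mk (signCo0 o))) {d : golayCode} (hd : wt d = 12)
    (N : Subgroup Spor.Co1) : ¬ Bad (_root_.Cfsg.Agent.CoOneType.ClosingFacts.mk (signCo0 d)) N := by
  intro h
  have hdm : wt (cd dm) = 12 := by rw [wt_cd ok_dm.1]; exact ok_dm.2
  obtain ⟨g, hg⟩ := isConj_iff.1 (isConj_dodecad hdm hd)
  rw [← hg] at h
  exact not_bad_dm hC (OddHalf.D4.Spor.LargeBase.bad_conj h)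

end

end Cfsg.Agent.KFacts.Co1D4.DodBad

end

-- merged: Cfsg.Agent.KFacts.Co1D4.Main
section

/-!
# The fact sheet of `Co₁` for the case D4
-/

set_option autoImplicit false
open Cfsg

namespace Cfsg.Agent.KFacts.Co1D4.Main

open Cfsg.Agent.SporadicA.Co0Mono
open Cfsg.Agent.SporadicA.Co1Simple (allOne)
open Cfsg.Agent.CoOneType
open Cfsg.Agent.CoOneType.SignFacts (wt)
open Cfsg.Agent.CoOneType.ClosingFacts (mk)
open Cfsg.Agent.CoOneType.InvMain (b0)
open Cfsg.Agent.OddHalf.D4.Spor Cfsg.Agent.OddHalf.D4.Spor.LargeBase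

theorem inn (α : MulAut Spor.Co1) : Inn α := by
  obtain ⟨s, hs⟩ := Cfsg.Agent.ConwayFacts.AutCo1.inner α
  exact ⟨s, MulEquiv.ext fun g => by rw [MulAut.conj_apply, hs]⟩

theorem setup : Abs.Setup TwoB.w TwoB.v TwoB.r TwoB.z GTwo.L := by
  have hcard : Nat.card (Subgroup.centralizer ({TwoB.w} : Set Spor.Co1)) ≤ 8 * Nat.card GTwo.L := by
    rw [GTwo.card_L]
    exact Cent.card_cent1 TwoB.k_sq
  exact TwoB.setup hcard (Cent.cent_eq TwoB.k_sq TwoB.ku GTwo.perf_L TwoB.Lw TwoB.Lv TwoB.center_L hcard)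

theorem tab (w : Spor.Co1) (N : Subgroup Spor.Co1) (h : Bad w N) (V : Subgroup Spor.Co1) (hV : V ≤ N)
    (_ : IsPGroup 2 ↥V) (_ : w ∈ V) (_ : ∀ v ∈ V, v * w = w * v)
    (hmax : ∀ P : Subgroup Spor.Co1, IsPGroup 2 ↥P → V ≤ P → P ≤ N → P = V) (_ : 4 ∣ Nat.card ↥V) :
    ∃ L : Subgroup Spor.Co1, VFacts V L := by
  rcases Base.cases w h.sq h.ne with ⟨g, c, hc, rfl⟩ | ⟨g, c, hc, rfl⟩ | ⟨g, rfl⟩
  · exact absurd (_root_.Cfsg.Agent.OddHalf.D4.Spor.LargeBase.cen_conj g (Base.cen_octad hc)) (h.non _ h.mem h.sq h.ne)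
  · exact absurd (bad_conj h) (DodBad.not_bad (fun _ ho => Base.cen_octad ho) hc _)
  · obtain ⟨g', hg'⟩ := TwoB.conj_w g
    rw [hg'] at h
    have hN := setup.eq_Z (bad_conj h)
    have hNV : N = setup.Z.map (MulAut.conj g' : Spor.Co1 ≃* Spor.Co1).toMonoidHom := by
      rw [← hN, Subgroup.map_map]
      have : ((MulAut.conj g' : Spor.Co1 ≃* Spor.Co1).toMonoidHom.comp
          ((MulAut.conj g'⁻¹ :) : Spor.Co1 ≃* Spor.Co1).toMonoidHom) = MonoidHom.id Spor.Co1 := by
        refine MonoidHom.ext fun x => ?_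
        show g' * (g'⁻¹ * x * g'⁻¹⁻¹) * g'⁻¹ = x
        group
      rw [this, Subgroup.map_id]
    have hN2 : IsPGroup 2 ↥N := by
      rw [hNV]
      have h4 : IsPGroup 2 ↥setup.Z := IsPGroup.of_card (n := 2) (by rw [setup.card_Z]; norm_num)
      exact h4.map _
    have hVN : N = V := hmax N hN2 hV le_rfl
    rw [← hVN, hNV]
    exact ⟨_, setup.vfacts.map (MulAut.conj g')⟩

theorem bal (a : Spor.Co1) (ha : a * a = 1) (ha1 : a ≠ 1) (I : Subgroup Spor.Co1) (h1 : ∀ i ∈ I, i * a = a * i)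
    (h2 : ∀ c : Spor.Co1, c * a = a * c → ∀ i ∈ I, c * i * c⁻¹ ∈ I) (ho : Odd (Nat.card ↥I)) : I = ⊥ := by
  rcases Base.cases a ha ha1 with ⟨g, c, hc, rfl⟩ | ⟨g, c, hc, rfl⟩ | ⟨g, rfl⟩
  · exact odd_eq_bot_of_conj (Base.odd_eq_bot_large (Co1.InCo1.large hc)) g I h1 h2 ho
  · exact odd_eq_bot_of_conj (DodBal.bal hc) g I h1 h2 ho
  · obtain ⟨g', hg'⟩ := TwoB.conj_w g
    rw [hg'] at h1 h2
    exact odd_eq_bot_of_conj (fun I h3 h4 h5 => setup.bal h3 h4 h5) g' I h1 h2 ho

/-- **The fact sheet of `Co₁`.** -/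
theorem sheet : Sheet Spor.Co1 := by
  obtain ⟨o, ho⟩ := Cfsg.Agent.CoOneType.ClosingCo1.exists_octad
  exact
    { out := out_of_inn inn
      schreier := schreier_of_inn inn
      sylAut := sylAut_of_inn inn
      z1 := fun S a ha _ ha1 hac b hb _ hb1 hbc => z1_of_one (Base.syl ho) S a ha ha1 hac b hb hb1 hbc
      bal := bal
      out2 := out2_of_inn inn
      tab := tab_of_elt tab }

end Cfsg.Agent.KFacts.Co1D4.Main

end

private theorem dce_f7b9bc789ae1 : _root_.True := by
  try have : _root_.True := by simp only [_root_.Cfsg.Agent.KFacts.Co1D4.DodBad.test.eq_1]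
  exact _root_.True.intro
end
end
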